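import Cfsg.Agent.Lib.Fusion.SmallCentralizer.Model

/-!
Averaging an element of the centralizer to one fixed at the bottom of the descent.
-/

set_option autoImplicit false

open Cfsg Cfsg.FusionSystem

namespace CfsgLib.Fusion.SmallCent

open CfsgLib.PStab (jGen jGen_le le_jGen jGen_map)
open scoped IsMulCommutative

universe u

variable {Ω : Type u} [Group Ω] {S T : Subgroup Ω} [Finite S] {F : FusionSystem S}
  {E : FusionSystem T} {p : ℕ} [Fact p.Prime]

omit [Fact p.Prime] in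
theorem apply_mem_jGen {U : Subgroup Ω} {φ : U →* Ω} (hφ : Function.Injective φ) {D : Subgroup Ω}
    (hD : D ≤ U) : ((jGen 0 D).subgroupOf U).map φ = jGen 0 ((D.subgroupOf U).map φ) := by
  rw [jGen_map hφ]
  congr 1
  rw [← Subgroup.map_subtype_inj, Subgroup.map_subgroupOf_eq_of_le ((jGen_le 0 D).trans hD),
    ← jGen_map U.subtype_injective, Subgroup.map_subgroupOf_eq_of_le hD]

/-- An automorphism of `T` stabilizes `J(T)`. -/
theorem aut_mem_jGen {U : Subgroup Ω} (a : MulAut U) {x : U} (hx : (x : Ω) ∈ jGen 0 U) :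
    (a x : Ω) ∈ jGen 0 U := by
  have h := apply_mem_jGen (φ := U.subtype.comp a.toMonoidHom)
    (U.subtype_injective.comp a.injective) (le_refl U)
  rw [Subgroup.subgroupOf_self, ← MonoidHom.range_eq_map, range_subtype_comp a] at h
  exact h.le ⟨x, hx, rfl⟩

omit [Fact p.Prime] in
/-- A product of a family of images of `y` is fixed by the automorphisms permuting the family. -/
theorem exists_average (hinv : E.IsInvariantIn F) {Q : Subgroup Ω} (hQ : E.IsCentric Q) {y : Ω}
    (hy : y ∈ centralizerIn S T) {ι : Type*} [Finite ι] (u : ι → ↥(Q ⊔ centralizerIn S T))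
    (hu : ∀ i, ∃ ψ ∈ extAut F E hinv Q, u i = ψ ⟨y, le_sup_right (a := Q) hy⟩) :
    ∃ w : ↥(Q ⊔ centralizerIn S T), y⁻¹ ^ Nat.card ι * (w : Ω) ∈ T ∧
      (∀ q ∈ Q, q * (w : Ω) = w * q) ∧
      ∀ ψ ∈ extAut F E hinv Q, ∀ σ : ι ≃ ι, (∀ i, ψ (u i) = u (σ i)) → ψ w = w := by
  have hT := hinv.2.1
  set Y := Subgroup.zpowers y
  set Z := Q ⊓ Subgroup.centralizer (Q : Set Ω)
  set yM : ↥(Q ⊔ centralizerIn S T) := ⟨y, le_sup_right (a := Q) hy⟩
  have hZc : ∀ z ∈ Z, ∀ w ∈ Y, z * w = w * z := by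
    intro z hz w hw
    obtain ⟨i, rfl⟩ := Subgroup.mem_zpowers_iff.1 hw
    exact ((show Commute z y from hy.2 z (hQ.1 hz.1)).zpow_right i).eq
  set A := Z ⊔ Y
  have hAM : A ≤ (Q ⊔ centralizerIn S T) := sup_le (inf_le_left.trans le_sup_left) (Subgroup.zpowers_le.2 yM.2)
  have hAc : ∀ a ∈ A, ∀ b ∈ A, a * b = b * a := by
    intro a ha b hb
    obtain ⟨a₁, ha₁, a₂, ha₂, rfl⟩ := exists_mem_sup_of_commute hZc ha
    obtain ⟨b₁, hb₁, b₂, hb₂, rfl⟩ := exists_mem_sup_of_commute hZc hb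
    have h1 : Commute a₁ b₁ := (ha₁.2 b₁ hb₁.1).symm
    have h2 : Commute a₂ b₂ := congrArg Subtype.val (mul_comm' (⟨a₂, ha₂⟩ : Y) ⟨b₂, hb₂⟩)
    have h3 : Commute a₁ b₂ := hZc _ ha₁ _ hb₂
    have h4 : Commute a₂ b₁ := (hZc _ hb₁ _ ha₂).symm
    exact ((h1.mul_right h3).mul_left (h4.mul_right h2)).eq
  -- the image of `y`
  have himg : ∀ ψ ∈ extAut F E hinv Q, y⁻¹ * (ψ yM : Ω) ∈ Z := by
    rintro ψ ⟨hψF, hψT, a, -, hae⟩
    have hq : y⁻¹ * (ψ yM : Ω) ∈ Q :=
      mem_of_mem_sup hQ ((Q ⊔ centralizerIn S T).mul_mem ((Q ⊔ centralizerIn S T).inv_mem yM.2) (ψ yM).2) (hψT yM)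
    refine ⟨hq, fun r hr => ?_⟩
    obtain ⟨x, hx⟩ := a.surjective ⟨r, hr⟩
    have h1 : Commute r (ψ yM : Ω) := by
      have h2 := congrArg (fun z => (ψ z : Ω))
        (show Subgroup.inclusion le_sup_left x * yM = yM * Subgroup.inclusion le_sup_left x from
          Subtype.ext (hy.2 x (hQ.1 x.2)))
      simp only [map_mul, Subgroup.coe_mul, hae, hx] at h2
      exact h2
    exact ((show Commute r y from hy.2 r (hQ.1 hr)).inv_right.mul_right h1).eq
  have himgA : ∀ ψ ∈ extAut F E hinv Q, (ψ yM : Ω) ∈ A := fun ψ hψ => by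
    have h1 := A.mul_mem (le_sup_right (a := Z) (Subgroup.mem_zpowers y))
      (le_sup_left (b := Y) (himg ψ hψ))
    rwa [mul_inv_cancel_left] at h1
  have hstab : ∀ ψ ∈ extAut F E hinv Q, ∀ x : ↥(Q ⊔ centralizerIn S T), (x : Ω) ∈ A → (ψ x : Ω) ∈ A := by
    intro ψ hψ x hx
    have hle : A ≤ ((A.comap (Q ⊔ centralizerIn S T).subtype).comap (ψ : ↥(Q ⊔ centralizerIn S T) ≃* ↥(Q ⊔ centralizerIn S T)).toMonoidHom).map (Q ⊔ centralizerIn S T).subtype := by
      refine sup_le (fun z hz => ?_) (Subgroup.zpowers_le.2 ⟨yM, himgA ψ hψ, rfl⟩)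
      refine ⟨⟨z, le_sup_left (b := centralizerIn S T) hz.1⟩, ?_, rfl⟩
      refine le_sup_left (b := Y) ⟨apply_mem_left hinv hQ hψ.1 hz.1, fun r hr => ?_⟩
      obtain ⟨a, -, hae⟩ := hψ.2.2
      obtain ⟨q, hq⟩ := a.surjective ⟨r, hr⟩
      have h2 := congrArg (fun w => (ψ w : Ω))
        (show Subgroup.inclusion le_sup_left q * ⟨z, le_sup_left (b := centralizerIn S T) hz.1⟩ =
          ⟨z, le_sup_left (b := centralizerIn S T) hz.1⟩ * Subgroup.inclusion le_sup_left q from
          Subtype.ext (hz.2 q q.2))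
      simp only [map_mul, Subgroup.coe_mul, hae, hq] at h2
      exact h2
    obtain ⟨x', hx', hxe⟩ := hle hx
    exact (show x' = x from Subtype.ext hxe) ▸ hx'
  set B : Subgroup ↥(Q ⊔ centralizerIn S T) := A.subgroupOf (Q ⊔ centralizerIn S T)
  have : IsMulCommutative B := ⟨⟨fun a b => Subtype.ext (Subtype.ext (hAc _ a.2 _ b.2))⟩⟩
  have := Fintype.ofFinite ι
  let v : ι → B := fun i => ⟨u i, Subgroup.mem_subgroupOf.2 (by
    obtain ⟨ψ, hψ, he⟩ := hu i
    rw [he]
    exact himgA ψ hψ)⟩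
  refine ⟨((∏ i, v i : B) : ↥(Q ⊔ centralizerIn S T)), ?_, fun q hq => ?_, fun ψ hψ σ hσ => ?_⟩
  · have hyB : yM ∈ B := le_sup_right (a := Z) (Subgroup.mem_zpowers y)
    have hdiv : ∀ i, (((⟨yM, hyB⟩ : B)⁻¹ * v i : B) : Ω) ∈ T := fun i => by
      obtain ⟨ψ, hψ, he⟩ := hu i
      change y⁻¹ * (u i : Ω) ∈ T
      rw [he]
      exact hQ.1 (himg ψ hψ).1
    have h1 : ((∏ i, ((⟨yM, hyB⟩ : B)⁻¹ * v i) : B) : Ω) ∈ T :=
      Finset.prod_induction _ (fun b : B => ((b : ↥(Q ⊔ centralizerIn S T)) : Ω) ∈ T) (fun a b ha hb => T.mul_mem ha hb)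
        T.one_mem fun i _ => hdiv i
    rw [Finset.prod_mul_distrib, Finset.prod_const, Finset.card_univ,
      ← Nat.card_eq_fintype_card] at h1
    simpa [yM] using h1
  · have hle : A ≤ Subgroup.centralizer (Q : Set Ω) :=
      sup_le inf_le_right (Subgroup.zpowers_le.2 fun r hr => hy.2 r (hQ.1 hr))
    exact hle ((∏ i, v i : B)).2 q hq
  · let ψB : B →* B :=
      { toFun := fun b => ⟨ψ b, Subgroup.mem_subgroupOf.2 (hstab ψ hψ _ b.2)⟩
        map_one' := Subtype.ext (map_one ψ)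
        map_mul' := fun a b => Subtype.ext (map_mul ψ (a : ↥(Q ⊔ centralizerIn S T)) b) }
    change ((ψB (∏ i, v i) : B) : ↥(Q ⊔ centralizerIn S T)) = _
    rw [map_prod, ← Equiv.prod_comp σ v]
    exact congrArg Subtype.val (Finset.prod_congr rfl fun i _ => Subtype.ext (hσ i))

/-- A power of `y` times an element of `T` is fixed by the coprime extensions of `Aut_E(T)`. -/
theorem exists_fixAt_top (hS : IsPGroup p S) (hF : F.IsSaturated p) (hEs : E.IsSaturated p)
    (hinv : E.IsInvariantIn F) {y : Ω} (hy : y ∈ centralizerIn S T) :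
    ∃ (k : ℕ) (w : Ω), ¬ p ∣ k ∧ w ∈ centralizerIn S T ∧ y⁻¹ ^ k * w ∈ T ∧
      FixAt F E hinv p T w := by
  have hT := hinv.2.1
  have hTS := hT.1
  have := finite_of_le hTS
  have hTp := hS.to_le hTS
  set C := centralizerIn S T
  set M := T ⊔ C
  have hMS : M ≤ S := sup_le_S hT le_rfl
  have := finite_of_le hMS
  have hTc : E.IsCentric T := isCentric_top_sub
  set X := extAut F E hinv T
  have htn : ∀ t ∈ T, t ∈ Subgroup.normalizer (M : Set Ω) := fun t ht =>
    mem_normalizer_sup_C hT (hTS ht) (Subgroup.le_normalizer ht) le_rfl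
  -- the normal `p`-subgroup
  let N₀ : Subgroup (MulAut M) :=
    { carrier := {ψ | ψ ∈ X ∧ ∃ t ∈ T, ∀ x : M, (x : Ω) ∈ T → (ψ x : Ω) = t * x * t⁻¹}
      one_mem' := ⟨one_mem _, 1, one_mem _, fun x _ => by simp⟩
      mul_mem' := by
        rintro a b ⟨ha, s, hs, hse⟩ ⟨hb, t, ht, hte⟩
        refine ⟨mul_mem ha hb, s * t, T.mul_mem hs ht, fun x hx => ?_⟩
        have h1 : (b x : Ω) ∈ T := by rw [hte x hx]; exact T.mul_mem (T.mul_mem ht hx) (T.inv_mem ht)
        rw [MulAut.mul_apply, hse _ h1, hte x hx]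
        group
      inv_mem' := by
        rintro a ⟨ha, s, hs, hse⟩
        refine ⟨inv_mem ha, s⁻¹, T.inv_mem hs, fun x hx => ?_⟩
        have hx' : s⁻¹ * (x : Ω) * s⁻¹⁻¹ ∈ T :=
          T.mul_mem (T.mul_mem (T.inv_mem hs) hx) (T.inv_mem (T.inv_mem hs))
        rw [show a⁻¹ x = ⟨_, le_sup_left (b := C) hx'⟩ from a.injective (by
          rw [MulAut.apply_inv_self]
          exact Subtype.ext (by rw [hse _ hx']; simp [mul_assoc]))] }
  have hN₀p : IsPGroup p N₀ := by
    rintro ⟨ψ, ⟨hψF, hψT, -⟩, t, ht, hte⟩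
    set b : MulAut M := normAut t (htn t ht)
    set a : MulAut M := b⁻¹ * ψ with ha
    have haT : ∀ x : M, (x : Ω) ∈ T → a x = x := fun x hx => by
      rw [ha, MulAut.mul_apply]
      apply b.injective
      rw [MulAut.apply_inv_self]
      exact Subtype.ext (hte x hx)
    have hbX : b ∈ X := autInducedBy_le_extAut hinv hTc (mem_autInducedBy_iff.2 ⟨t, ht, fun _ => rfl⟩)
    have haX : a ∈ X := mul_mem (inv_mem hbX) ⟨hψF, hψT, by assumption⟩
    obtain ⟨e, he⟩ := IsPGroup.iff_card.1 (hS.to_le hMS)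
    have hpow : ∀ (n : ℕ) (x : M), (a ^ n) x = x * (x⁻¹ * a x) ^ n := by
      intro n x
      induction n with
      | zero => simp
      | succ n ih =>
        rw [pow_succ' a, MulAut.mul_apply, ih, map_mul, map_pow,
          haT (x⁻¹ * a x) (by simpa using haX.2.1 x), pow_succ', ← mul_assoc, mul_inv_cancel_left]
    have hae : a ^ p ^ e = 1 := MulEquiv.ext fun x => by
      rw [hpow, ← he, pow_card_eq_one', mul_one, MulAut.one_apply]
    have hcomm : Commute b a := MulEquiv.ext fun x => by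
      change b (a x) = a (b x)
      refine Subtype.ext ?_
      have hb' : b x = ⟨t, le_sup_left (b := C) ht⟩ * x * ⟨t, le_sup_left (b := C) ht⟩⁻¹ :=
        Subtype.ext rfl
      rw [hb', map_mul, map_mul, map_inv, haT ⟨t, le_sup_left (b := C) ht⟩ ht]
      rfl
    obtain ⟨k, hk⟩ := isPGroup_autInducedBy hTp M ⟨b, mem_autInducedBy_iff.2 ⟨t, ht, fun _ => rfl⟩⟩
    refine ⟨e + k, Subtype.ext ?_⟩
    change ψ ^ p ^ (e + k) = 1
    rw [show ψ = b * a by rw [ha, mul_inv_cancel_left], hcomm.mul_pow, pow_add, pow_mul a, hae,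
      one_pow, mul_one, mul_comm, pow_mul]
    rw [show b ^ p ^ k = 1 from congrArg Subtype.val hk, one_pow]
  have hN₀n : ∀ β ∈ F.autGroup M, ∀ a ∈ N₀, β * a * β⁻¹ ∈ N₀ := by
    rintro β hβ a ⟨ha, t, ht, hte⟩
    refine ⟨extAut_conj_mem hinv hTc hβ ha, _,
      apply_mem_left hinv hTc hβ (x := ⟨t, le_sup_left (b := C) ht⟩) ht, fun x hx => ?_⟩
    have hx' : ((β⁻¹ x : M) : Ω) ∈ T := apply_mem_left hinv hTc (inv_mem hβ) hx
    rw [MulAut.mul_apply, MulAut.mul_apply,
      show a (β⁻¹ x) = ⟨t, le_sup_left (b := C) ht⟩ * β⁻¹ x * ⟨t, le_sup_left (b := C) ht⟩⁻¹ from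
        Subtype.ext (hte _ hx'), map_mul, map_mul, map_inv, MulAut.apply_inv_self]
    rfl
  -- its elements move `y` by conjugation inside `C`
  have hN₀S : N₀ ≤ autInducedBy S M := by
    refine le_autInducedBy_of_normal_pgroup (F := F) (fullyAutomized_receptive_of_fullyNormalized
      hS hF (isFullyNormalized_of_inf hT ⟨hTS, fun R hR => ?_⟩ hMS
        (le_antisymm inf_le_right (le_inf le_sup_left le_rfl))
        fun s hs => mem_normalizer_sup_C hT hs.1 hs.2 le_rfl)).1 (fun a ha => ha.1.1)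
      ⟨fun a ha b => Subgroup.mem_subgroupOf.2 (hN₀n b b.2 a (Subgroup.mem_subgroupOf.1 ha))⟩ hN₀p
    obtain ⟨φ, hφ, rfl⟩ := hR
    rw [(weaklyClosed_of_stronglyClosed hT).2 φ hφ]
  have hconjg : ∀ a ∈ N₀, ∃ g ∈ C, ∀ (x : M), (x : Ω) ∈ C → (a x : Ω) = g * x * g⁻¹ := by
    rintro a ha
    obtain ⟨s, hs, hse⟩ := mem_autInducedBy_iff.1 (hN₀S ha)
    obtain ⟨-, t, ht, hte⟩ := ha
    have hg : t⁻¹ * s ∈ C := by
      refine ⟨S.mul_mem (S.inv_mem (hTS ht)) hs, fun r hr => ?_⟩
      have h1 : s * r * s⁻¹ = t * r * t⁻¹ :=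
        (hse ⟨r, le_sup_left (b := C) hr⟩).symm.trans (hte _ hr)
      change r * (t⁻¹ * s) = t⁻¹ * s * r
      calc r * (t⁻¹ * s) = t⁻¹ * (t * r * t⁻¹) * s := by group
        _ = _ := by rw [← h1]; group
    refine ⟨_, hg, fun x hx => ?_⟩
    rw [hse]
    have hcC : t⁻¹ * s * (x : Ω) * (t⁻¹ * s)⁻¹ ∈ C :=
      C.mul_mem (C.mul_mem hg hx) (C.inv_mem hg)
    have h2 := hcC.2 t ht
    calc s * (x : Ω) * s⁻¹ = t * (t⁻¹ * s * x * (t⁻¹ * s)⁻¹) * t⁻¹ := by group
      _ = _ := by rw [h2]; group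
  -- the complement
  have hindex : ¬ p ∣ (N₀.subgroupOf X).index := by
    intro hd
    have hsec := ((isFullyAutomized_iff hTp).1
      (fullyAutomized_receptive_of_fullyNormalized hTp hEs isFullyNormalized_self).1).2
    choose r hr hre using fun ψ : X => ψ.2.2.2
    let f : X →* MulAut T :=
      { toFun := r
        map_one' := MulEquiv.ext fun x => Subtype.ext (hre 1 x).symm
        map_mul' := fun a b => MulEquiv.ext fun x => Subtype.ext ((hre (a * b) x).symm.trans (by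
          rw [Subgroup.coe_mul, MulAut.mul_apply,
            show (b : MulAut M) (Subgroup.inclusion le_sup_left x) =
              Subgroup.inclusion le_sup_left (r b x) from Subtype.ext (hre b x), hre a]
          rfl)) }
    have heq : N₀.subgroupOf X = (autInducedBy T T).comap f := by
      ext ψ
      rw [Subgroup.mem_comap, mem_autInducedBy_iff]
      constructor
      · rintro ⟨-, t, ht, hte⟩
        exact ⟨t, ht, fun x => (hre ψ x).symm.trans (hte _ x.2)⟩
      · rintro ⟨t, ht, hte⟩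
        exact ⟨ψ.2, t, ht, fun x hx => (hre ψ ⟨x, hx⟩).trans (hte ⟨x, hx⟩)⟩
    rw [heq, Subgroup.index_comap] at hd
    refine hsec (hd.trans ?_)
    have hle : f.range ≤ E.autGroup T := by rintro _ ⟨ψ, rfl⟩; exact hr ψ
    rw [← Subgroup.relIndex_subgroupOf hle]
    have hn : ((autInducedBy T T).subgroupOf (E.autGroup T)).Normal := by
      refine ⟨fun a ha b => Subgroup.mem_subgroupOf.2 ?_⟩
      obtain ⟨t, ht, hte⟩ := mem_autInducedBy_iff.1 (Subgroup.mem_subgroupOf.1 ha)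
      refine mem_autInducedBy_iff.2 ⟨_, ((b : MulAut T) ⟨t, ht⟩).2, fun x => ?_⟩
      change (((b : MulAut T) ((a : MulAut T) ((b : MulAut T)⁻¹ x)) : T) : Ω) = _
      rw [show (a : MulAut T) ((b : MulAut T)⁻¹ x) = ⟨t, ht⟩ * (b : MulAut T)⁻¹ x * ⟨t, ht⟩⁻¹ from
        Subtype.ext (hte _), map_mul, map_mul, map_inv, MulAut.apply_inv_self]
      rfl
    exact Subgroup.relIndex_dvd_index_of_normal _ _
  have hi : Nat.Coprime (Nat.card ↥(N₀.subgroupOf X)) (N₀.subgroupOf X).index := by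
    obtain ⟨j, hj⟩ := IsPGroup.iff_card.1 (hN₀p.comap_subtype (K := X))
    rw [show Nat.card ↥(N₀.subgroupOf X) = p ^ j from hj]
    exact Nat.Coprime.pow_left _ ((Fact.out : p.Prime).coprime_iff_not_dvd.2 hindex)
  have hn₀ : (N₀.subgroupOf X).Normal := ⟨fun a ha b =>
    Subgroup.mem_subgroupOf.2 (hN₀n b b.2.1 a (Subgroup.mem_subgroupOf.1 ha))⟩
  obtain ⟨H, hH⟩ := Subgroup.exists_left_complement'_of_coprime hi
  have hcardH : ¬ p ∣ Nat.card H := by
    rw [← Subgroup.IsComplement'.index_eq_card hH]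
    exact hindex
  set yM : M := ⟨y, le_sup_right (a := T) hy⟩
  obtain ⟨w, hwT, hwc, hwfix⟩ := exists_average hinv hTc hy
    (fun h : H => ((h : X) : MulAut M) yM) fun h => ⟨_, (h : X).2, rfl⟩
  have hwC : (w : Ω) ∈ C := ⟨hMS w.2, hwc⟩
  refine ⟨Nat.card H, w, hcardH, hwC, hwT, fun ψ hψ hco x hx => ?_⟩
  obtain rfl : x = w := Subtype.ext hx
  have hHfix : ∀ h ∈ H, ((h : X) : MulAut M) x = x := fun h hh =>
    hwfix _ (h : X).2 (Equiv.mulLeft (⟨h, hh⟩ : H)) fun i => rfl
  -- they fix the conjugates as well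
  have hHconj : ∀ h ∈ H, ∀ a ∈ N₀, ((h : X) : MulAut M) (a x) = a x := by
    intro h hh a ha
    obtain ⟨g, hg, hge⟩ := hconjg a ha
    set gM : M := ⟨g, le_sup_right (a := T) hg⟩
    have h1 : a x = gM * x * gM⁻¹ := Subtype.ext (hge x hwC)
    have h2 : g⁻¹ * (((h : X) : MulAut M) gM : Ω) ∈ T := (h : X).2.2.1 gM
    have h3 := hwC.2 _ h2
    rw [h1, map_mul, map_mul, map_inv, hHfix h hh]
    refine Subtype.ext ?_
    change (((h : X) : MulAut M) gM : Ω) * x * (((h : X) : MulAut M) gM : Ω)⁻¹ = g * x * g⁻¹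
    calc (((h : X) : MulAut M) gM : Ω) * x * (((h : X) : MulAut M) gM : Ω)⁻¹ =
        g * ((g⁻¹ * (((h : X) : MulAut M) gM : Ω)) * x) * (((h : X) : MulAut M) gM : Ω)⁻¹ := by group
      _ = _ := by rw [h3]; group
  obtain ⟨⟨h, a⟩, hha, -⟩ := Subgroup.isComplement_iff_existsUnique.1 hH ⟨ψ, hψ⟩
  have hψe : ψ = ((h : X) : MulAut M) * ((a : X) : MulAut M) :=
    (congrArg Subtype.val hha).symm
  have haN : ((a : X) : MulAut M) ∈ N₀ := Subgroup.mem_subgroupOf.1 a.2
  have hpow : ∀ n : ℕ, (ψ ^ n) x = (((a : X) : MulAut M) ^ n) x := by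
    intro n
    induction n with
    | zero => rfl
    | succ n ih =>
      rw [pow_succ' ψ, MulAut.mul_apply, ih, hψe, MulAut.mul_apply]
      have h4 := hHconj (h : X) h.2 _ (pow_mem haN (n + 1))
      rw [pow_succ' ((a : X) : MulAut M), MulAut.mul_apply] at h4 ⊢
      exact h4
  let Fx : Subgroup (MulAut M) :=
    { carrier := {β | β x = x}
      one_mem' := rfl
      mul_mem' := fun {b c} hb hc => by
        change b (c x) = x
        rw [show c x = x from hc]
        exact hb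
      inv_mem' := fun {b} hb => b.injective (by rw [MulAut.apply_inv_self]; exact hb.symm) }
  obtain ⟨j, hj⟩ := hN₀p ⟨_, haN⟩
  have hj' : ((a : X) : MulAut M) ^ p ^ j = 1 := congrArg Subtype.val hj
  obtain ⟨m, hm⟩ := exists_pow_eq_self_of_coprime (x := ((a : X) : MulAut M)) (n := orderOf ψ)
    ((hco.pow_right j).coprime_dvd_right (orderOf_dvd_of_pow_eq_one hj'))
  have haF : ((a : X) : MulAut M) ∈ Fx := by
    rw [← hm]
    refine pow_mem ?_ m
    change (((a : X) : MulAut M) ^ orderOf ψ) x = x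
    rw [← hpow, pow_orderOf_eq_one, MulAut.one_apply]
  rw [hψe, MulAut.mul_apply, show ((a : X) : MulAut M) x = x from haF, hHfix _ h.2]

/-- A power of `y` times an element of `T` is fixed at the bottom of the descent. -/
theorem exists_isBase (hS : IsPGroup p S) (hF : F.IsSaturated p) (hEs : E.IsSaturated p)
    (hinv : E.IsInvariantIn F) (hJc : E.IsCentric (jGen 0 T)) {y : Ω}
    (hy : y ∈ centralizerIn S T) :
    ∃ (k : ℕ) (w : Ω), ¬ p ∣ k ∧ y⁻¹ ^ k * w ∈ T ∧ IsBase F E hinv p w := by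
  obtain ⟨k₁, y₁, hk₁, hy₁, hy₁T, hfix₁⟩ := exists_fixAt_top hS hF hEs hinv hy
  have hT := hinv.2.1
  have hTS := hT.1
  have := finite_of_le hTS
  set C := centralizerIn S T
  set J := jGen 0 T
  have hJT : J ≤ T := jGen_le 0 T
  set M := J ⊔ C
  have hMS : M ≤ S := sup_le_S hT hJT
  have := finite_of_le hMS
  have hJn : F.IsFullyNormalized J := by
    have := finite_of_le (normalizerIn_le (S := S) J)
    refine ⟨hJT.trans hTS, fun R hR => Subgroup.card_le_of_le ?_⟩
    have := finite_of_le (hJT.trans hTS)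
    exact fun s hs => ⟨hs.1, mem_normalizer_of_forall fun x hx =>
      conj_mem_jGen (mem_normalizer_of_stronglyClosed hT hs.1) hx⟩
  set A := autInducedBy T M
  set Y := closAut T F M
  have hAY : A ≤ Y := fun a ha => Subgroup.subset_closure ⟨a, ha, 1, one_mem _, by simp⟩
  have hYX : Y ≤ extAut F E hinv J := closAut_le_extAut hinv hJc
  have hi := not_dvd_relIndex_closAut hS hF hEs hinv hJc hJn
  set y₁M : M := ⟨y₁, le_sup_right (a := J) hy₁⟩
  let u : Y ⧸ A.subgroupOf Y → M := fun q => Quotient.liftOn' q (fun g => (g : MulAut M) y₁M)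
    fun a b hab => by
      rw [QuotientGroup.leftRel_apply] at hab
      obtain ⟨t, ht, hte⟩ := mem_autInducedBy_iff.1 (Subgroup.mem_subgroupOf.1 hab)
      have h1 : ((a⁻¹ * b : Y) : MulAut M) y₁M = y₁M := Subtype.ext (by
        rw [hte]
        change t * y₁ * t⁻¹ = y₁
        rw [hy₁.2 t ht, mul_inv_cancel_right])
      rw [Subgroup.coe_mul, Subgroup.coe_inv, MulAut.mul_apply] at h1
      calc (a : MulAut M) y₁M = (a : MulAut M) ((a : MulAut M)⁻¹ ((b : MulAut M) y₁M)) := by rw [h1]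
        _ = _ := (a : MulAut M).apply_symm_apply _
  obtain ⟨w, hwT, -, hwfix⟩ := exists_average hinv hJc hy₁ u fun q => by
    induction q using QuotientGroup.induction_on with
    | _ g => exact ⟨_, hYX g.2, rfl⟩
  have hYfix : ∀ ψ ∈ Y, ψ w = w := fun ψ hψ =>
    hwfix ψ (hYX hψ) (MulAction.toPerm (⟨ψ, hψ⟩ : Y)) fun q => by
      induction q using QuotientGroup.induction_on with
      | _ g => rfl
  have hwC : (w : Ω) ∈ C := by
    refine ⟨hMS w.2, fun t ht => ?_⟩
    have := finite_of_le (hJT.trans hTS)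
    have htn : t ∈ Subgroup.normalizer (M : Set Ω) := mem_normalizer_sup_C hT (hTS ht)
      (mem_normalizer_of_forall fun x hx => conj_mem_jGen (Subgroup.le_normalizer ht) hx) hJT
    have h1 := congrArg Subtype.val
      (hYfix _ (hAY (mem_autInducedBy_iff.2 ⟨t, ht, fun _ => rfl⟩ : normAut t htn ∈ A)))
    exact (eq_mul_inv_iff_mul_eq.1 h1.symm).symm
  refine ⟨k₁ * Nat.card (Y ⧸ A.subgroupOf Y), w, fun hd => ?_, ?_, hwC, ?_, fun ψ hψ x hx => ?_⟩
  · exact ((Fact.out : p.Prime).dvd_mul.1 hd).elim hk₁ hi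
  · set d := y⁻¹ ^ k₁ * y₁
    set N := Nat.card (Y ⧸ A.subgroupOf Y)
    have hd : Commute d (y⁻¹ ^ k₁) :=
      ((show Commute d y from hy.2 d hy₁T).inv_right.pow_right k₁)
    have h1 : y₁ = y ^ k₁ * d := by simp [d, ← mul_assoc]
    have h2 : y₁⁻¹ ^ N = d⁻¹ ^ N * y⁻¹ ^ (k₁ * N) := by
      rw [h1, mul_inv_rev, ← inv_pow, (hd.inv_left).mul_pow, ← pow_mul]
    rw [h2, mul_assoc] at hwT
    have h3 := T.mul_mem (T.pow_mem hy₁T N) hwT
    rw [← mul_assoc, inv_pow, mul_inv_cancel, one_mul] at h3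
    exact h3
  · intro β hβ hco x hx
    obtain ⟨hβF, hβT, a, ha, hae⟩ := hβ
    have hle : M ≤ T ⊔ C := sup_le_sup_right hJT C
    have hTC := sup_le_S hT (le_refl T)
    have hyfix := hfix₁ β ⟨hβF, hβT, a, ha, hae⟩ hco ⟨y₁, hle y₁M.2⟩ rfl
    have haJ : ∀ (z : Ω) (hz : z ∈ J), (β ⟨z, le_sup_left (b := C) (hJT hz)⟩ : Ω) ∈ J := fun z hz => by
      rw [show (β ⟨z, le_sup_left (b := C) (hJT hz)⟩ : Ω) = a ⟨z, hJT hz⟩ from hae ⟨z, hJT hz⟩]
      exact aut_mem_jGen a hz
    obtain ⟨β', hβ', hβe⟩ := exists_iso_of_range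
      (res_mem F ((mem_autGroup_iff F hTC).1 hβF) hle) (Q := M) (by
        refine Subgroup.eq_of_le_of_card_ge ?_ (le_of_eq (Nat.card_congr (MonoidHom.ofInjective
          (F.injective_of_mem (res_mem F ((mem_autGroup_iff F hTC).1 hβF) hle))).toEquiv))
        rintro _ ⟨z, rfl⟩
        obtain ⟨q, hq, c, hc, hqc⟩ := exists_mem_mul hJT z.2
        change (β (Subgroup.inclusion hle z) : Ω) ∈ M
        rw [show Subgroup.inclusion hle z = ⟨q, le_sup_left (b := C) (hJT hq)⟩ *
          ⟨c, le_sup_right (a := T) hc⟩ from Subtype.ext hqc.symm, map_mul, Subgroup.coe_mul]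
        refine M.mul_mem (le_sup_left (b := C) (haJ q hq)) ?_
        have hcC := apply_mem_centralizerIn_of_ext (a := a) hTS hae
          (c := ⟨c, le_sup_right (a := T) hc⟩) hc
        exact le_sup_right (a := J) hcC)
    have hβJ : (β' : MulAut M) ∈ extAut F E hinv J := by
      refine ⟨(mem_autGroup_iff F hMS).2 hβ', fun z => by rw [hβe]; exact hβT (Subgroup.inclusion hle z), ?_⟩
      have := finite_of_le (hJT.trans hTS)
      obtain ⟨b, hb, hbe⟩ := exists_iso_of_range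
        (res_mem E ((mem_autGroup_iff E le_rfl).1 ha) hJT) (Q := J) (by
          refine Subgroup.eq_of_le_of_card_ge ?_ (le_of_eq (Nat.card_congr (MonoidHom.ofInjective
            (E.injective_of_mem (res_mem E ((mem_autGroup_iff E le_rfl).1 ha) hJT))).toEquiv))
          rintro _ ⟨z, rfl⟩
          exact aut_mem_jGen a z.2)
      exact ⟨b, (mem_autGroup_iff E hJT).2 hb, fun z =>
        ((hβe _).trans (show (β (Subgroup.inclusion hle (Subgroup.inclusion le_sup_left z)) : Ω) = _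
          from hae (Subgroup.inclusion hJT z))).trans (hbe z).symm⟩
    have hA' : ∀ b ∈ A, (β' : MulAut M) * b * (β' : MulAut M)⁻¹ ∈ A := by
      intro b hb
      obtain ⟨t, ht, hte⟩ := mem_autInducedBy_iff.1 hb
      refine mem_autInducedBy_iff.2 ⟨_, (a ⟨t, ht⟩).2, fun z => ?_⟩
      rw [MulAut.mul_apply, MulAut.mul_apply]
      obtain ⟨z', rfl⟩ := (β' : MulAut M).surjective z
      rw [MulAut.inv_apply_self, hβe, hβe]
      change (β (Subgroup.inclusion hle (b z')) : Ω) = _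
      rw [show Subgroup.inclusion hle (b z') = ⟨t, le_sup_left (b := C) ht⟩ *
        Subgroup.inclusion hle z' * ⟨t, le_sup_left (b := C) ht⟩⁻¹ from Subtype.ext (hte z'),
        map_mul, map_mul, map_inv, Subgroup.coe_mul, Subgroup.coe_mul, Subgroup.coe_inv,
        show (β ⟨t, le_sup_left (b := C) ht⟩ : Ω) = a ⟨t, ht⟩ from hae ⟨t, ht⟩]
      rfl
    have hconj : ∀ g : Y, (β' : MulAut M) * g * (β' : MulAut M)⁻¹ ∈ Y := fun g =>
      closAut_conj_mem hβJ.1 g.2
    let σ : (Y ⧸ A.subgroupOf Y) → (Y ⧸ A.subgroupOf Y) :=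
      Quotient.map' (fun g => ⟨_, hconj g⟩) fun g h hgh => by
        rw [QuotientGroup.leftRel_apply] at hgh ⊢
        refine Subgroup.mem_subgroupOf.2 ?_
        have h1 := hA' _ (Subgroup.mem_subgroupOf.1 hgh)
        simp only [Subgroup.coe_mul, Subgroup.coe_inv] at h1 ⊢
        convert h1 using 1
        group
    have hσinj : Function.Injective σ := by
      intro q r hqr
      induction q using QuotientGroup.induction_on with
      | _ g => induction r using QuotientGroup.induction_on with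
        | _ h =>
          refine QuotientGroup.eq.2 (Subgroup.mem_subgroupOf.2 ?_)
          have h1 := Subgroup.mem_subgroupOf.1 (QuotientGroup.eq.1
            (show ((⟨_, hconj g⟩ : Y) : Y ⧸ A.subgroupOf Y) = (⟨_, hconj h⟩ : Y) from hqr))
          have hmap : A.map (MulAut.conj (β' : MulAut M)).toMonoidHom = A :=
            Subgroup.eq_of_le_of_card_ge (by rintro _ ⟨b, hb, rfl⟩; exact hA' b hb)
              (Subgroup.card_map_of_injective (f := (MulAut.conj (β' : MulAut M)).toMonoidHom)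
                (MulAut.conj (β' : MulAut M)).injective).ge
          simp only [Subgroup.coe_mul, Subgroup.coe_inv] at h1 ⊢
          obtain ⟨b, hb, hbe⟩ := hmap.ge h1
          have hbe' : (β' : MulAut M) * b * (β' : MulAut M)⁻¹ = _ := hbe
          have heq : (g : MulAut M)⁻¹ * (h : MulAut M) = b := by
            calc (g : MulAut M)⁻¹ * (h : MulAut M)
                = (β' : MulAut M)⁻¹ * (((β' : MulAut M) * g * (β' : MulAut M)⁻¹)⁻¹ *
                    ((β' : MulAut M) * h * (β' : MulAut M)⁻¹)) * (β' : MulAut M) := by group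
              _ = _ := by rw [← hbe']; group
          rw [heq]
          exact hb
    have h1 := hwfix _ hβJ (Equiv.ofBijective σ
      (Finite.injective_iff_bijective.1 hσinj)) fun q => by
        induction q using QuotientGroup.induction_on with
        | _ g =>
          change (β' : MulAut M) ((g : MulAut M) y₁M) =
            ((β' : MulAut M) * g * (β' : MulAut M)⁻¹) y₁M
          have h2 : (β' : MulAut M) y₁M = y₁M := Subtype.ext ((hβe _).trans hyfix)
          rw [MulAut.mul_apply, MulAut.mul_apply, show (β' : MulAut M)⁻¹ y₁M = y₁M from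
            (β' : MulAut M).injective (by rw [MulAut.apply_inv_self, h2])]
    have h3 := (hβe w).symm.trans (congrArg Subtype.val h1)
    rw [show x = Subgroup.inclusion hle w from Subtype.ext hx]
    exact h3
  · obtain rfl : x = w := Subtype.ext hx
    rw [hYfix ψ hψ]

omit [Fact p.Prime] in
/-- The bottom elements are permuted by the automorphisms of `T C`. -/
theorem isBase_apply [Fact p.Prime] (hinv : E.IsInvariantIn F) (hJc : E.IsCentric (jGen 0 T))
    {α : MulAut ↥(T ⊔ centralizerIn S T)} (hα : α ∈ F.autGroup (T ⊔ centralizerIn S T))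
    {y : ↥(T ⊔ centralizerIn S T)} (hy : IsBase F E hinv p (y : Ω)) :
    IsBase F E hinv p (α y : Ω) := by
  obtain ⟨hyC, hfix, hY⟩ := hy
  have hT := hinv.2.1
  have hTS := hT.1
  have := finite_of_le hTS
  set J := jGen 0 T
  have hJT : J ≤ T := jGen_le 0 T
  have hTC := sup_le_S hT (le_refl T)
  have := finite_of_le hTC
  set M := J ⊔ (centralizerIn S T)
  have hMS : M ≤ S := sup_le_S hT hJT
  have := finite_of_le hMS
  have hle : M ≤ T ⊔ (centralizerIn S T) := sup_le_sup_right hJT (centralizerIn S T)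
  obtain ⟨a, ha, hae⟩ := exists_iso_of_range
    (res_mem F ((mem_autGroup_iff F hTC).1 hα) (le_sup_left : T ≤ T ⊔ (centralizerIn S T)))
    ((weaklyClosed_of_stronglyClosed hT).2 _ (res_mem F ((mem_autGroup_iff F hTC).1 hα) le_sup_left))
  have hae' : ∀ x : T, (α (Subgroup.inclusion le_sup_left x) : Ω) = ((a x : T) : Ω) :=
    fun x => (hae x).symm
  have hαC : ∀ x : ↥(T ⊔ (centralizerIn S T)), (x : Ω) ∈ (centralizerIn S T) → (α x : Ω) ∈ (centralizerIn S T) := fun x hx =>
    apply_mem_centralizerIn_of_ext (a := (a : MulAut T)) hTS hae' hx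
  refine ⟨hαC y hyC, ?_, fun ψ hψ x hx => ?_⟩
  · have hi : IsIso F (α⁻¹ : MulAut ↥(T ⊔ (centralizerIn S T))) := (mem_autGroup_iff F hTC).1 (inv_mem hα)
    refine fixAt_transport hinv isCentric_top_sub isCentric_top_sub hi (α y) rfl ?_
    rw [MulAut.inv_apply_self]
    exact hfix
  · obtain ⟨e, he, hee⟩ := exists_iso_of_range
      (res_mem F ((mem_autGroup_iff F hTC).1 hα) hle) (Q := M) (by
        refine Subgroup.eq_of_le_of_card_ge ?_ (le_of_eq (Nat.card_congr (MonoidHom.ofInjective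
          (F.injective_of_mem (res_mem F ((mem_autGroup_iff F hTC).1 hα) hle))).toEquiv))
        rintro _ ⟨z, rfl⟩
        obtain ⟨q, hq, c, hc, hqc⟩ := exists_mem_mul hJT z.2
        change (α (Subgroup.inclusion hle z) : Ω) ∈ M
        rw [show Subgroup.inclusion hle z = ⟨q, le_sup_left (b := (centralizerIn S T)) (hJT hq)⟩ *
          ⟨c, le_sup_right (a := T) hc⟩ from Subtype.ext hqc.symm, map_mul, Subgroup.coe_mul]
        refine M.mul_mem (le_sup_left (b := (centralizerIn S T)) ?_) (le_sup_right (a := J) (hαC _ hc))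
        rw [show (α ⟨q, le_sup_left (b := (centralizerIn S T)) (hJT hq)⟩ : Ω) = a ⟨q, hJT hq⟩ from hae' ⟨q, hJT hq⟩]
        exact aut_mem_jGen a hq)
    have heF : (e : MulAut M) ∈ F.autGroup M := (mem_autGroup_iff F hMS).2 he
    have hψ' : (e : MulAut M)⁻¹ * ψ * (e : MulAut M) ∈ closAut T F M := by
      simpa using closAut_conj_mem (inv_mem heF) hψ
    set y' : M := ⟨y, le_sup_right (a := J) hyC⟩
    have hxe : x = (e : MulAut M) y' := Subtype.ext (hx.trans (hee y').symm)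
    have h1 := hY _ hψ' y' rfl
    have h2 : (e : MulAut M) (((e : MulAut M)⁻¹ * ψ * (e : MulAut M)) y') = ψ x := by
      rw [MulAut.mul_apply, MulAut.mul_apply, MulAut.apply_inv_self, ← hxe]
    rw [show ((e : MulAut M)⁻¹ * ψ * (e : MulAut M)) y' = y' from Subtype.ext h1] at h2
    rw [← h2, ← hxe]
    exact hx

end CfsgLib.Fusion.SmallCent
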