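import Cfsg.Agent.Lib.Fusion.SmallCentralizer.Defs
import Cfsg.Agent.Lib.Fusion.NormalCentralizer

/-!
Maps of a normal subsystem extended so as to fix an element of the centralizer of its group, and
the step from the normalizer of a centric subgroup down to the subgroup.
-/

set_option autoImplicit false

open Cfsg Cfsg.FusionSystem

namespace CfsgLib.Fusion.SmallCent

variable {Ω : Type*} [Group Ω] {S T : Subgroup Ω} [Finite S] {F : FusionSystem S}
  {E : FusionSystem T} {p : ℕ} [Fact p.Prime]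

/-- Every map of the normal subsystem on a centric subgroup has an extension trivial modulo `T`. -/
theorem hasTrivialExtHom_of_isNormalIn (hS : IsPGroup p S) (hE : E.IsNormalIn F p) {P : Subgroup Ω}
    {φ : P →* Ω} (hφ : φ ∈ E.Hom P) (hP : E.IsCentric P) : HasTrivialExtHom F E φ := by
  obtain ⟨⟨hEs, hF, hinv⟩, hext⟩ := hE
  have hTS := hinv.2.1.1
  have := finite_of_le hTS
  have hTp := hS.to_le hTS
  obtain ⟨-, hfr, -⟩ := index_prime_to_of_centric_pElements hTp hEs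
    (E := centricPElementSys E p) (fun _ _ h => h.1) containsCentricPElements_centricPElementSys
  obtain ⟨α, hα, φ₀, hφ₀, he⟩ := hfr P φ hφ
  have hD : ContainsCentricPElements (trivialExtSys hinv) E p := fun R hR β hβ hk => by
    obtain ⟨k, hk⟩ := hk
    exact (mem_autGroup_iff _ hR.1).2 ⟨(mem_autGroup_iff E hR.1).1 hβ, fun _ =>
      hasTrivialExtHom_of_pElement hS hF hEs hinv hR hβ (k := k) (hk ▸ pow_orderOf_eq_one β)⟩
  obtain ⟨β, hβ, hβT, hβC⟩ := hext α hα
  have hαD : autIncl α ∈ (trivialExtSys hinv).Hom T := ⟨(mem_autGroup_iff E le_rfl).1 hα, fun _ =>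
    ⟨_, (mem_autGroup_iff F (sup_le hTS (centralizerIn_le T))).1 hβ, fun x => hβT x,
      fun c hc => (hβC ⟨c, Subgroup.mem_sup_right hc⟩ hc).1⟩⟩
  have h := mem_of_eq rfl ((trivialExtSys hinv).comp_mem (hφ₀.2 _ hD) hαD
    fun x => apply_mem_S _ hφ₀ x) (φ' := φ) fun x => he x _
  exact h.2 hP

omit [Fact p.Prime] in
/-- An extension trivial modulo `T` of an automorphism. -/
theorem exists_extAut_of_trivialExt (hE : E.IsInvariantIn F) {P : Subgroup Ω} (hP : E.IsCentric P)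
    {a : MulAut P} (ha : a ∈ E.autGroup P) (h : HasTrivialExtHom F E (P.subtype.comp a.toMonoidHom)) :
    ∃ ψ ∈ extAut F E hE P, ∀ x : P,
      ψ (Subgroup.inclusion le_sup_left x) = Subgroup.inclusion le_sup_left (a x) := by
  obtain ⟨ψ, hψ, hψe, hψc⟩ := h
  have hPS := sup_le_S hE.2.1 hP.1
  have := finite_of_le hPS
  have hle := apply_mem_sup_of_trivialExt hE hP ((mem_autGroup_iff E hP.1).1 ha) hψe hψc
  rw [range_subtype_comp] at hle
  obtain ⟨β, hβ, hβe⟩ := exists_iso_of_range hψ (Subgroup.eq_of_le_of_card_ge hle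
    (Nat.card_congr (MonoidHom.ofInjective (F.injective_of_mem hψ)).toEquiv).le)
  refine ⟨β, ⟨(mem_autGroup_iff F hPS).2 hβ, fun x => ?_, a, ha, fun x => (hβe _).trans (hψe x)⟩,
    fun x => Subtype.ext ((hβe _).trans (hψe x))⟩
  obtain ⟨q, hq, c, hc, hqc⟩ := exists_mem_mul hP.1 x.2
  rw [hβe, show x = Subgroup.inclusion le_sup_left (⟨q, hq⟩ : P) * ⟨c, le_sup_right (a := P) hc⟩ from
    Subtype.ext hqc.symm, map_mul, hψe, Subgroup.coe_mul]
  change (q * c)⁻¹ * ((a ⟨q, hq⟩ : Ω) * ψ ⟨c, _⟩) ∈ T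
  set u := q⁻¹ * (a ⟨q, hq⟩ : Ω) with hu
  have huT : u ∈ T := T.mul_mem (T.inv_mem (hP.1 hq)) (hP.1 (a _).2)
  have h6 : c⁻¹ * u = u * c⁻¹ := by
    rw [inv_mul_eq_iff_eq_mul, ← mul_assoc, ← hc.2 u huT, mul_inv_cancel_right]
  rw [show (q * c)⁻¹ * ((a ⟨q, hq⟩ : Ω) * ψ ⟨c, le_sup_right (a := P) hc⟩) =
    c⁻¹ * u * ψ ⟨c, le_sup_right (a := P) hc⟩ by rw [hu]; group, h6, mul_assoc]
  exact T.mul_mem huT (hψc c hc)

variable (F T) in
/-- An extension trivial modulo `T` fixing `y`. -/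
def HasFixExt (y : Ω) {P : Subgroup Ω} (φ : P →* Ω) : Prop :=
  ∃ ψ ∈ F.Hom (P ⊔ centralizerIn S T), (∀ x : P, ψ (Subgroup.inclusion le_sup_left x) = φ x) ∧
    (∀ (c : Ω) (hc : c ∈ centralizerIn S T), c⁻¹ * ψ ⟨c, le_sup_right (a := P) hc⟩ ∈ T) ∧
    ∀ x : ↥(P ⊔ centralizerIn S T), (x : Ω) = y → ψ x = y

/-- The maps with such extensions on the centric subgroups of order at least `m`. -/
def fixExtSys (hE : E.IsInvariantIn F) {y : Ω} (hy : y ∈ centralizerIn S T) (m : ℕ) :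
    FusionSystem T where
  Hom P := {φ | φ ∈ E.Hom P ∧ (E.IsCentric P → m ≤ Nat.card P → HasFixExt T F y φ)}
  le_of_mem h := E.le_of_mem h.1
  injective_of_mem h := E.injective_of_mem h.1
  conj_mem := fun {P g} hP hg => by
    have hTS := hE.2.1.1
    refine ⟨E.conj_mem hP hg, fun _ _ => ⟨conjHom _ g, F.conj_mem (sup_le (hP.trans hTS)
      (centralizerIn_le T)) (hTS hg), fun x => rfl, fun c hc => ?_, fun x hx => ?_⟩⟩
    · change c⁻¹ * (g * c * g⁻¹) ∈ T
      rw [hc.2 g hg, mul_inv_cancel_right, inv_mul_cancel]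
      exact T.one_mem
    · change g * (x : Ω) * g⁻¹ = y
      rw [hx, hy.2 g hg, mul_inv_cancel_right]
  comp_mem := by
    rintro P Q φ θ ⟨hφ, hφg⟩ ⟨hθ, hθg⟩ h
    refine ⟨E.comp_mem hφ hθ h, fun hPc hm => ?_⟩
    have hrc : E.IsCentric φ.range := ⟨range_le_S E hφ, fun R hR =>
      hPc.2 R (isConj_trans ⟨φ, hφ, rfl⟩ hR)⟩
    have hφQ : φ.range ≤ Q := by rintro _ ⟨x, rfl⟩; exact h x
    have hmQ : m ≤ Nat.card Q := by
      have := finite_of_le (S := S) ((le_S E hθ).trans hE.2.1.1)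
      refine hm.trans ?_
      rw [Nat.card_congr (MonoidHom.ofInjective (E.injective_of_mem hφ)).toEquiv]
      exact Subgroup.card_le_of_le hφQ
    obtain ⟨ψ₁, hψ₁, hψ₁e, hψ₁c, hψ₁y⟩ := hφg hPc hm
    obtain ⟨ψ₂, hψ₂, hψ₂e, hψ₂c, hψ₂y⟩ := hθg (isCentric_of_le hφQ (le_S E hθ) hrc) hmQ
    have hv : ∀ x, ψ₁ x ∈ Q ⊔ centralizerIn S T := fun x => sup_le_sup_right hφQ _
      (apply_mem_sup_of_trivialExt hE hPc hφ hψ₁e hψ₁c ⟨x, rfl⟩)
    refine ⟨ψ₂.comp (ψ₁.codRestrict _ hv), F.comp_mem hψ₁ hψ₂ hv, fun x => ?_, fun c hc => ?_,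
      fun x hx => hψ₂y _ (hψ₁y x hx)⟩
    · change ψ₂ ⟨ψ₁ (Subgroup.inclusion le_sup_left x), _⟩ = θ ⟨φ x, h x⟩
      rw [← hψ₂e]
      exact congrArg ψ₂ (Subtype.ext (hψ₁e x))
    · set z := c⁻¹ * ψ₁ ⟨c, le_sup_right (a := P) hc⟩ with hz
      have hzQ : z ∈ Q ⊔ centralizerIn S T := Subgroup.mul_mem _
        (Subgroup.inv_mem _ (le_sup_right (a := Q) hc)) (hv _)
      have h1 : ψ₁.codRestrict _ hv ⟨c, le_sup_right (a := P) hc⟩ =
          ⟨c, le_sup_right (a := Q) hc⟩ * ⟨z, hzQ⟩ := Subtype.ext (by simp [hz])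
      rw [MonoidHom.comp_apply, h1, map_mul, ← mul_assoc]
      refine T.mul_mem (hψ₂c c hc) (hE.2.1.2 _ inf_le_right _
        (res_mem F hψ₂ (inf_le_left : (Q ⊔ centralizerIn S T) ⊓ T ≤ _))
        ⟨z, hzQ, hψ₁c c hc⟩)
  inv_mem := by
    rintro P φ ⟨hφ, hφg⟩
    obtain ⟨θ, hθ, hθe⟩ := E.inv_mem hφ
    refine ⟨θ, ⟨hθ, fun hrc hm => ?_⟩, hθe⟩
    have hPc : E.IsCentric P := ⟨le_S E hφ, fun R hR =>
      hrc.2 R (isConj_trans (isConj_symm ⟨φ, hφ, rfl⟩) hR)⟩
    have := finite_of_le (S := S) (hPc.1.trans hE.2.1.1)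
    obtain ⟨ψ, hψ, hψe, hψc, hψy⟩ := hφg hPc
      (hm.trans_eq (Nat.card_congr (MonoidHom.ofInjective (E.injective_of_mem hφ)).toEquiv).symm)
    obtain ⟨e, he, hee⟩ := exists_iso_of_range hψ (Q := φ.range ⊔ centralizerIn S T)
      (by
        refine le_antisymm (apply_mem_sup_of_trivialExt hE hPc hφ hψe hψc) (sup_le ?_ fun c hc => ?_)
        · rintro _ ⟨x, rfl⟩; exact ⟨_, hψe x⟩
        · have hR : φ.range ≤ ψ.range := by rintro _ ⟨x, rfl⟩; exact ⟨_, hψe x⟩
          have hu : c⁻¹ * ψ ⟨c, le_sup_right (a := P) hc⟩ ∈ φ.range :=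
            mem_of_mem_sup hrc (Subgroup.mul_mem _ (Subgroup.inv_mem _ (le_sup_right (a := φ.range) hc))
              (apply_mem_sup_of_trivialExt hE hPc hφ hψe hψc ⟨_, rfl⟩)) (hψc c hc)
          have h6 := ψ.range.mul_mem (⟨_, rfl⟩ : ψ ⟨c, le_sup_right (a := P) hc⟩ ∈ ψ.range)
            (ψ.range.inv_mem (hR hu))
          rwa [mul_inv_rev, inv_inv, mul_inv_cancel_left] at h6)
    refine ⟨_, he.symm, fun x => ?_, fun c hc => ?_, fun x hx => ?_⟩
    · obtain ⟨_, x, rfl⟩ := x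
      rw [hθe]
      change (e.symm (Subgroup.inclusion le_sup_left (⟨φ x, x, rfl⟩ : φ.range)) : Ω) = x
      rw [← show e (Subgroup.inclusion le_sup_left x) =
        Subgroup.inclusion le_sup_left (⟨φ x, x, rfl⟩ : φ.range) from
          Subtype.ext ((hee _).trans (hψe x)), MulEquiv.symm_apply_apply]
      rfl
    · change c⁻¹ * (e.symm ⟨c, _⟩ : Ω) ∈ T
      set w := e.symm ⟨c, le_sup_right (a := φ.range) hc⟩
      obtain ⟨q, hq, d, hd, hqd⟩ := exists_mem_mul hPc.1 w.2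
      have hwc : c = φ ⟨q, hq⟩ * ψ ⟨d, le_sup_right (a := P) hd⟩ := by
        have h1 : (e w : Ω) = c := by simp [w]
        rw [hee, show w = Subgroup.inclusion le_sup_left (⟨q, hq⟩ : P) *
          ⟨d, le_sup_right (a := P) hd⟩ from Subtype.ext hqd.symm, map_mul, hψe] at h1
        exact h1.symm
      have hqT : φ ⟨q, hq⟩ ∈ T := apply_mem_S E hφ _
      set z := d⁻¹ * ψ ⟨d, le_sup_right (a := P) hd⟩ with hz
      rw [← hqd, hwc, mul_inv_rev]
      have h6 : d⁻¹ * (φ ⟨q, hq⟩)⁻¹ = (φ ⟨q, hq⟩)⁻¹ * d⁻¹ := by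
        rw [← mul_inv_rev, ← mul_inv_rev, commute_C hqT hd]
      rw [show ψ ⟨d, le_sup_right (a := P) hd⟩ = d * z by simp [hz], mul_inv_rev, mul_assoc z⁻¹,
        h6, mul_assoc, mul_assoc (φ ⟨q, hq⟩)⁻¹, ← mul_assoc d⁻¹,
        show d⁻¹ * q = q * d⁻¹ by
          rw [inv_mul_eq_iff_eq_mul, ← mul_assoc, ← commute_C (hPc.1 hq) hd, mul_inv_cancel_right],
        mul_assoc q, inv_mul_cancel, mul_one]
      exact T.mul_mem (T.inv_mem (hψc d hd)) (T.mul_mem (T.inv_mem hqT) (hPc.1 hq))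
    · change (e.symm x : Ω) = y
      have hyP : y ∈ P ⊔ centralizerIn S T := le_sup_right (a := P) hy
      rw [show e.symm x = ⟨y, hyP⟩ from (MulEquiv.symm_apply_eq e).2
        (Subtype.ext (hx.trans ((hee _).trans (hψy _ rfl)).symm))]

/-- Above the current level, every map has an extension fixing `y`. -/
theorem hasFixExt_of_fixAt (hS : IsPGroup p S) (hE : E.IsNormalIn F p) {y : Ω}
    (hy : y ∈ centralizerIn S T) {m : ℕ} (hT0 : FixAt F E hE.1.2.2 p T y)
    (hfix : ∀ Q : Subgroup Ω, E.IsCentric Q → m < Nat.card (normalizerIn T Q) →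
      FixAt F E hE.1.2.2 p Q y)
    {P : Subgroup Ω} {φ : P →* Ω} (hφ : φ ∈ E.Hom P) (hPc : E.IsCentric P) (hm : m ≤ Nat.card P) :
    HasFixExt T F y φ := by
  have hEs := hE.1.1
  have hinv := hE.1.2.2
  have hTS := hinv.2.1.1
  have := finite_of_le hTS
  have hTp := hS.to_le hTS
  set D := fixExtSys hinv hy m
  refine (alperin hTp hEs D (fun R hR => ?_) P hφ).2 hPc hm
  have hRn : E.IsFullyNormalized R := by
    rcases hR with rfl | hR
    · exact isFullyNormalized_self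
    · exact hR.2.1
  have hRT : R ≤ T := hRn.1
  have := finite_of_le (S := S) (hRT.trans hTS)
  by_cases hc : E.IsCentric R ∧ m ≤ Nat.card R
  · obtain ⟨hRc, hmR⟩ := hc
    have hi := ((isFullyAutomized_iff hTp).1
      (fullyAutomized_receptive_of_fullyNormalized hTp hEs hRn).1).2
    refine le_of_sylow_of_coprime (p := p) (autInducedBy_le_autGroup hRT)
      (autGroup_mono (show D.IsSubsystemOf E from fun _ _ h => h.1) R) hi fun a ha hco => ?_
    refine (mem_autGroup_iff D hRT).2 ⟨(mem_autGroup_iff E hRT).1 ha, fun _ _ => ?_⟩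
    obtain ⟨β, hβ, hβe⟩ := exists_extAut_of_trivialExt hinv hRc ha
      (hasTrivialExtHom_of_isNormalIn hS hE ((mem_autGroup_iff E hRT).1 ha) hRc)
    have := finite_of_le (sup_le_S hinv.2.1 hRT)
    obtain ⟨n, hn, hne⟩ := exists_coprime_power_extending le_sup_left hβe hco
    have hfR : FixAt F E hinv p R y := by
      rcases eq_or_lt_of_le hRT with rfl | hlt
      · exact hT0
      · have := finite_of_le (S := S) ((normalizerIn_le (S := T) R).trans hTS)
        exact hfix R hRc (lt_of_le_of_lt hmR (lt_of_not_ge fun h =>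
          (lt_normalizerIn hTp hlt).ne (Subgroup.eq_of_le_of_card_ge (le_normalizerIn hRT) h)))
    have hmem := pow_mem hβ n
    exact ⟨_, (mem_autGroup_iff F (sup_le_S hinv.2.1 hRT)).1 hmem.1,
      fun x => congrArg Subtype.val (hne x), fun c hc => hmem.2.1 ⟨c, _⟩,
      fun x hx => hfR _ hmem hn x hx⟩
  · intro a ha
    exact (mem_autGroup_iff D hRT).2 ⟨(mem_autGroup_iff E hRT).1 ha,
      fun h1 h2 => absurd ⟨h1, h2⟩ hc⟩

/-- An automorphism of order prime to `p` of an overgroup restricting to `E` lies in `E`. -/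
theorem mem_autGroup_of_restrict_coprime (hS : IsPGroup p S) (hEs : E.IsSaturated p)
    (hinv : E.IsInvariantIn F) {Q U : Subgroup Ω}
    (hQ : E.IsCentric Q) (hQn : E.IsFullyNormalized Q) (hQU : Q ≤ U) (hUN : U ≤ normalizerIn T Q)
    {a : MulAut U} (ha : a ∈ F.autGroup U) (hco : (orderOf a).Coprime p) {b : MulAut Q}
    (hb : b ∈ E.autGroup Q)
    (hab : ∀ x : Q, (a (Subgroup.inclusion hQU x) : Ω) = ((b x : Q) : Ω)) :
    a ∈ E.autGroup U := by
  have hTS := hinv.2.1.1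
  have := finite_of_le hTS
  have hUT : U ≤ T := hUN.trans (normalizerIn_le Q)
  have := finite_of_le (hUT.trans hTS)
  have hTp := hS.to_le hTS
  have hbE := (mem_autGroup_iff E hQ.1).1 hb
  have hext : U ≤ extender T Q (Q.subtype.comp b.toMonoidHom) := fun u hu => by
    refine mem_extender_iff.2 ⟨hUT hu, (hUN hu).2, a ⟨u, hu⟩, hUT (a _).2, fun x => ?_⟩
    change (b (normAut u (hUN hu).2 x) : Ω) = (a ⟨u, hu⟩ : Ω) * (b x : Ω) * (a ⟨u, hu⟩ : Ω)⁻¹
    rw [← hab, ← hab, show Subgroup.inclusion hQU (normAut u (hUN hu).2 x) =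
      ⟨u, hu⟩ * Subgroup.inclusion hQU x * ⟨u, hu⟩⁻¹ from Subtype.ext (by simp), map_mul, map_mul,
      map_inv]
    rfl
  obtain ⟨β, hβ, hβe⟩ := exists_extension
    (fullyAutomized_receptive_of_fullyNormalized hTp hEs hQn).2 hbE hQU hext
  have hsame : ∀ u : U, (a u : Ω)⁻¹ * β u ∈ Q := by
    intro u
    have hu := hUN u.2
    refine hQ.2 Q (isConj_refl hQ.1) ⟨T.mul_mem (T.inv_mem (hUT (a u).2)) (apply_mem_S E hβ u), ?_⟩
    intro r hr
    obtain ⟨x, hx⟩ := b.surjective ⟨r, hr⟩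
    have hxr : (b x : Ω) = r := congrArg Subtype.val hx
    have h1 : Subgroup.inclusion hQU (normAut (u : Ω) hu.2 x) =
        u * Subgroup.inclusion hQU x * u⁻¹ := Subtype.ext (by simp)
    have h2 := congrArg (fun z => (a z : Ω)) h1
    simp only [map_mul, map_inv, Subgroup.coe_mul, Subgroup.coe_inv] at h2
    rw [hab, hab, hxr] at h2
    have h3 := congrArg β h1
    rw [map_mul, map_mul, map_inv, hβe, hβe] at h3
    simp only [MonoidHom.comp_apply, Subgroup.coe_subtype, MulEquiv.coe_toMonoidHom, hxr] at h3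
    rw [h2] at h3
    calc r * ((a u : Ω)⁻¹ * β u) = (a u : Ω)⁻¹ * ((a u : Ω) * r * (a u : Ω)⁻¹) * β u := by group
      _ = (a u : Ω)⁻¹ * (β u * r * (β u)⁻¹) * β u := by rw [h3]
      _ = _ := by group
  obtain ⟨e, he, hee⟩ := exists_iso_of_range hβ (Q := U) (Subgroup.eq_of_le_of_card_ge (by
    rintro _ ⟨u, rfl⟩
    have h1 := U.mul_mem (a u).2 (hQU (hsame u))
    rwa [mul_inv_cancel_left] at h1)
    (Nat.card_congr (MonoidHom.ofInjective (E.injective_of_mem hβ)).toEquiv).le)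
  have heA : (e : MulAut U) ∈ E.autGroup U := (mem_autGroup_iff E hUT).2 he
  set γ : MulAut U := (e : MulAut U)⁻¹ * a with hγ
  have hγF : γ ∈ F.autGroup U := mul_mem (inv_mem (autGroup_mono hinv.1 U heA)) ha
  have heQ : ∀ x : U, (x : Ω) ∈ Q → (e x : Ω) = (a x : Ω) := fun x hx => by
    rw [hee, show x = Subgroup.inclusion hQU ⟨x, hx⟩ from rfl, hβe, hab]
  have hγQ : ∀ x : U, (x : Ω) ∈ Q → γ x = x := fun x hx => by
    rw [hγ, MulAut.mul_apply, ← show e x = a x from Subtype.ext (heQ x hx)]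
    exact e.symm_apply_apply x
  have hγU : ∀ u : U, ((u⁻¹ * γ u : U) : Ω) ∈ Q := by
    intro u
    have h1 : e (u⁻¹ * γ u) = (e u)⁻¹ * a u := by
      rw [map_mul, map_inv, hγ, MulAut.mul_apply]
      congr 1
      exact e.apply_symm_apply (a u)
    have h2 : ((e (u⁻¹ * γ u) : U) : Ω) ∈ Q := by
      rw [h1, Subgroup.coe_mul, Subgroup.coe_inv, hee]
      have := Q.inv_mem (hsame u)
      rwa [mul_inv_rev, inv_inv] at this
    obtain ⟨x, hx⟩ := b.surjective ⟨_, h2⟩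
    have h3 : e (Subgroup.inclusion hQU x) = e (u⁻¹ * γ u) := Subtype.ext (by
      rw [heQ _ x.2, hab, hx])
    rw [← e.injective h3]
    exact x.2
  have hγpow : ∀ (n : ℕ) (u : U), (γ ^ n) u = u * (u⁻¹ * γ u) ^ n := by
    intro n u
    induction n with
    | zero => simp
    | succ n ih =>
      rw [pow_succ' γ, MulAut.mul_apply, ih, map_mul, map_pow, hγQ _ (hγU u), pow_succ',
        ← mul_assoc, mul_inv_cancel_left]
  obtain ⟨k, hk⟩ := IsPGroup.iff_card.1 (hS.to_le (hUT.trans hTS))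
  have hγk : γ ^ p ^ k = 1 := MulEquiv.ext fun u => by
    rw [hγpow, ← hk, pow_card_eq_one', mul_one, MulAut.one_apply]
  have hae : a = (e : MulAut U) * γ := by rw [hγ, mul_inv_cancel_left]
  rw [hae] at hco ⊢
  exact mem_of_coprime_mul (A := E.autGroup U) heA
    (fun c hc => congr_mem_autGroup_of_conjClosed (conjClosed_of_isInvariantIn hinv) hUT hinv.1 hc hγF)
    hco (k := k) (hγk ▸ one_mem _)

/-- The step from `N_T(Q)` down to `Q`. -/
theorem fixAt_of_normalizer (hS : IsPGroup p S) (hEs : E.IsSaturated p) (hinv : E.IsInvariantIn F)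
    {Q : Subgroup Ω} (hQ : E.IsCentric Q) (hQn : E.IsFullyNormalized Q)
    (hrec : F.IsReceptive (Q ⊔ centralizerIn S T))
    (hsyl : ¬ p ∣ (autInducedBy T (Q ⊔ centralizerIn S T)).relIndex
      (closAut T F (Q ⊔ centralizerIn S T)))
    {y : Ω} (hy : y ∈ centralizerIn S T)
    (hY : ∀ ψ ∈ closAut T F (Q ⊔ centralizerIn S T),
      ∀ x : ↥(Q ⊔ centralizerIn S T), (x : Ω) = y → (ψ x : Ω) = y)
    (hP : FixAt F E hinv p (normalizerIn T Q) y) :
    FixAt F E hinv p Q y := by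
  have hT := hinv.2.1
  have hTS := hT.1
  set C := centralizerIn S T
  set M := Q ⊔ C
  set P := normalizerIn T Q
  have hMS : M ≤ S := sup_le_S hT hQ.1
  have := finite_of_le hMS
  have := finite_of_le hTS
  have hPT : P ≤ T := normalizerIn_le Q
  have hQP : Q ≤ P := le_normalizerIn hQ.1
  have hMPC : M ≤ P ⊔ C := sup_le_sup_right hQP C
  have hPC := sup_le_S hT hPT
  have := finite_of_le hPC
  have hPc : E.IsCentric P := isCentric_of_le hQP hPT hQ
  set A := autInducedBy T M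
  set Y := closAut T F M
  have hAY : A ≤ Y := fun a ha => Subgroup.subset_closure ⟨a, ha, 1, one_mem _, by simp⟩
  set X := extAut F E hinv Q
  have hYX : Y ≤ X := closAut_le_extAut hinv hQ
  have hAp : IsPGroup p A := isPGroup_autInducedBy (hS.to_le hTS) M
  let Fy : Subgroup (MulAut M) :=
    { carrier := {ψ | ∀ x : M, (x : Ω) = y → (ψ x : Ω) = y}
      one_mem' := fun x hx => hx
      mul_mem' := fun {a b} ha hb x hx => ha _ (hb x hx)
      inv_mem' := fun {a} ha x hx => by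
        rw [show a⁻¹ x = x from a.injective (by
          rw [MulAut.apply_inv_self]
          exact Subtype.ext (hx.trans (ha x hx).symm))]
        exact hx }
  set N := {ψ | ψ ∈ X ∧ ∀ b ∈ A, ψ * b * ψ⁻¹ ∈ A}
  set V := Y ⊔ Subgroup.closure {ψ | ψ ∈ N ∧ (orderOf ψ).Coprime p}
  -- the elements of order prime to `p` of the normalizer
  have hN : ∀ n ∈ N, (orderOf n).Coprime p → n ∈ Fy := by
    rintro n ⟨hnX, hnA⟩ hco x hx
    obtain ⟨hnF, hnT, a, ha, hae⟩ := hnX
    have hnHom := (mem_autGroup_iff F hMS).1 hnF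
    have hext : P ⊔ C ≤ extender S M (M.subtype.comp n.toMonoidHom) := by
      refine sup_le (fun u hu => ?_) ((le_sup_right : C ≤ M).trans (le_extender hnHom))
      refine mem_extender_iso_iff.2 ⟨hTS (hPT hu), mem_normalizer_sup_C hT (hTS (hPT hu)) hu.2 hQ.1,
        autInducedBy_mono hTS ?_⟩
      exact hnA _ (exists_autInducedBy hT hQ.1 (hPT hu) hu.2)
    obtain ⟨ψ, hψ, hψe⟩ := exists_extension hrec hnHom hMPC hext
    have hψQ : ∀ (q : Ω) (hq : q ∈ Q), ψ ⟨q, hMPC (le_sup_left (b := C) hq)⟩ = (a ⟨q, hq⟩ : Ω) :=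
      fun q hq => (hψe ⟨q, le_sup_left (b := C) hq⟩).trans (hae ⟨q, hq⟩)
    have hψP : ∀ (u : Ω) (hu : u ∈ P), ψ ⟨u, le_sup_left (b := C) hu⟩ ∈ P := by
      intro u hu
      have h1 : ψ ⟨u, le_sup_left (b := C) hu⟩ ∈ T :=
        hT.2 _ inf_le_right _ (res_mem F hψ (inf_le_left : (P ⊔ C) ⊓ T ≤ _))
          ⟨u, le_sup_left (b := C) hu, hPT hu⟩
      have := finite_of_le (hQ.1.trans hTS)
      refine ⟨h1, mem_normalizer_of_forall fun r hr => ?_⟩
      obtain ⟨q, hq⟩ := a.surjective ⟨r, hr⟩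
      have h2 : ψ (⟨u, le_sup_left (b := C) hu⟩ * ⟨q, hMPC (le_sup_left (b := C) q.2)⟩ *
          ⟨u, le_sup_left (b := C) hu⟩⁻¹) =
          ψ ⟨_, hMPC (le_sup_left (b := C) (conj_mem_of_mem_normalizer hu.2 q.2))⟩ :=
        congrArg ψ (Subtype.ext rfl)
      rw [map_mul, map_mul, map_inv, hψQ q q.2,
        hψQ _ (conj_mem_of_mem_normalizer hu.2 q.2)] at h2
      rw [show (a ⟨(q : Ω), q.2⟩ : Ω) = r from congrArg Subtype.val hq] at h2
      rw [h2]
      exact (a _).2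
    have hψC : ∀ (c : Ω) (hc : c ∈ C), c⁻¹ * ψ ⟨c, le_sup_right (a := P) hc⟩ ∈ Q := by
      intro c hc
      rw [show ψ ⟨c, le_sup_right (a := P) hc⟩ = (n ⟨c, le_sup_right (a := Q) hc⟩ : Ω) from
        hψe ⟨c, le_sup_right (a := Q) hc⟩]
      exact mem_of_mem_sup hQ (Subgroup.mul_mem _ (Subgroup.inv_mem _ (le_sup_right (a := Q) hc))
        (n _).2) (hnT ⟨c, le_sup_right (a := Q) hc⟩)
    have hψr : ψ.range ≤ P ⊔ C := by
      rintro _ ⟨z, rfl⟩
      obtain ⟨u, hu, c, hc, huc⟩ := exists_mem_mul hPT z.2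
      rw [show z = ⟨u, le_sup_left (b := C) hu⟩ * ⟨c, le_sup_right (a := P) hc⟩ from
        Subtype.ext huc.symm, map_mul]
      refine Subgroup.mul_mem _ (le_sup_left (b := C) (hψP u hu)) ?_
      have h1 := (P ⊔ C).mul_mem (le_sup_right (a := P) hc) (le_sup_left (b := C) (hQP (hψC c hc)))
      rwa [mul_inv_cancel_left] at h1
    obtain ⟨β, hβ, hβe⟩ := exists_iso_of_range hψ (Subgroup.eq_of_le_of_card_ge hψr
      (Nat.card_congr (MonoidHom.ofInjective (F.injective_of_mem hψ)).toEquiv).le)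
    obtain ⟨k, hk, hke⟩ := exists_coprime_power_extending hMPC
      (fun z => Subtype.ext ((hβe _).trans (hψe z))) hco (β := (β : MulAut ↥(P ⊔ C)))
    set β' := (β : MulAut ↥(P ⊔ C)) ^ k
    have hβ'F : β' ∈ F.autGroup (P ⊔ C) := pow_mem ((mem_autGroup_iff F hPC).2 hβ) k
    have hβ'P : ∀ z : ↥(P ⊔ C), (z : Ω) ∈ P → (β' z : Ω) ∈ P :=
      fun z hz => apply_mem_left hinv hPc hβ'F hz
    have hmem : β' ∈ extAut F E hinv P := by
      refine ⟨hβ'F, fun z => ?_, ?_⟩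
      · obtain ⟨u, hu, c, hc, huc⟩ := exists_mem_mul hPT z.2
        set c' : Ω := (β' ⟨c, le_sup_right (a := P) hc⟩ : Ω)
        set w := u⁻¹ * (β' ⟨u, le_sup_left (b := C) hu⟩ : Ω) with hw
        have hwT : w ∈ T := T.mul_mem (T.inv_mem (hPT hu)) (hPT (hβ'P _ hu))
        have hcT : c⁻¹ * c' ∈ T := by
          simp only [c']
          rw [show (β' ⟨c, le_sup_right (a := P) hc⟩ : Ω) =
            (n ⟨c, le_sup_right (a := Q) hc⟩ : Ω) from
              congrArg Subtype.val (hke ⟨c, le_sup_right (a := Q) hc⟩)]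
          exact hnT ⟨c, _⟩
        rw [show z = ⟨u, le_sup_left (b := C) hu⟩ * ⟨c, le_sup_right (a := P) hc⟩ from
          Subtype.ext huc.symm, map_mul, Subgroup.coe_mul, Subgroup.coe_mul]
        change (u * c)⁻¹ * ((β' ⟨u, _⟩ : Ω) * c') ∈ T
        rw [show (u * c)⁻¹ * ((β' ⟨u, le_sup_left (b := C) hu⟩ : Ω) * c') = c⁻¹ * w * c' by
          rw [hw]; group, show c⁻¹ * w = w * c⁻¹ by
          rw [inv_mul_eq_iff_eq_mul, ← mul_assoc, ← commute_C hwT hc, mul_inv_cancel_right],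
          mul_assoc]
        exact T.mul_mem hwT hcT
      · obtain ⟨b, hb, hbco, hbe⟩ := exists_coprime_restrict (P := P) hPC le_sup_left hβ'F
          (fun z => ⟨hβ'P z, fun hz => by
            have h1 := apply_mem_left hinv hPc (inv_mem hβ'F) hz
            rwa [MulAut.inv_apply_self] at h1⟩) hk
        refine ⟨b, mem_autGroup_of_restrict_coprime hS hEs hinv hQ hQn hQP le_rfl hb hbco ha
          (fun q => ?_), fun z => (hbe z).symm⟩
        rw [hbe]
        exact (congrArg Subtype.val (hke (Subgroup.inclusion le_sup_left q))).trans (hae q)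
    have h1 := hP β' hmem hk ⟨y, le_sup_right (a := P) hy⟩ rfl
    rw [show (⟨y, le_sup_right (a := P) hy⟩ : ↥(P ⊔ C)) = Subgroup.inclusion hMPC x from
      Subtype.ext hx.symm, hke] at h1
    exact h1
  have hVFy : V ≤ Fy := sup_le hY ((Subgroup.closure_le _).2 fun n hn => hN n hn.1 hn.2)
  have hVX : V ≤ X := sup_le hYX ((Subgroup.closure_le _).2 fun n hn => hn.1.1)
  -- `X = Y N`
  have hdec : ∀ ψ ∈ X, ∃ b ∈ Y, ∃ n ∈ N, ψ = b * n := by
    intro ψ hψ
    have hle : A.map (MulAut.conj ψ).toMonoidHom ≤ Y := by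
      rintro _ ⟨b, hb, rfl⟩
      exact closAut_conj_mem hψ.1 (hAY hb)
    obtain ⟨g, hg, hgA⟩ := exists_conj_mem_of_le (hAp.map _) hAp hle hAY hsyl
    refine ⟨g⁻¹, inv_mem hg, g * ψ, ⟨mul_mem (hYX hg) hψ, fun b hb => ?_⟩, by group⟩
    have := hgA _ ⟨b, hb, rfl⟩
    rwa [show g * ψ * b * (g * ψ)⁻¹ = g * (ψ * b * ψ⁻¹) * g⁻¹ by group]
  have hVn : ∀ ψ ∈ X, ∀ v ∈ V, ψ * v * ψ⁻¹ ∈ V := by
    intro ψ hψ
    obtain ⟨b, hb, n, hn, rfl⟩ := hdec ψ hψ
    have h1 : V ≤ V.comap (MulAut.conj n).toMonoidHom := sup_le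
      (fun v hv => le_sup_left (α := Subgroup _) (closAut_conj_mem hn.1.1 hv))
      ((Subgroup.closure_le _).2 fun v hv => le_sup_right (α := Subgroup _) (Subgroup.subset_closure
        ⟨⟨mul_mem (mul_mem hn.1 hv.1.1) (inv_mem hn.1), fun c hc => by
          have hn' : ∀ c ∈ A, n⁻¹ * c * n ∈ A := fun c hc => by
            have hle : A.map (MulAut.conj n).toMonoidHom ≤ A := by
              rintro _ ⟨d, hd, rfl⟩; exact hn.2 d hd
            have := Subgroup.eq_of_le_of_card_ge hle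
              (Subgroup.card_map_of_injective (MulAut.conj n).injective).ge
            obtain ⟨d, hd, rfl⟩ := this.ge hc
            simpa [mul_assoc] using hd
          have := hn.2 _ (hv.1.2 _ (hn' c hc))
          change n * v * n⁻¹ * c * (n * v * n⁻¹)⁻¹ ∈ A
          rwa [show n * v * n⁻¹ * c * (n * v * n⁻¹)⁻¹ = n * (v * (n⁻¹ * c * n) * v⁻¹) * n⁻¹ by group]⟩,
        by
          change (orderOf (MulAut.conj n v)).Coprime p
          rw [MulEquiv.orderOf_eq]
          exact hv.2⟩))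
    intro v hv
    have hbV : b ∈ V := le_sup_left (α := Subgroup _) hb
    have := mul_mem (mul_mem hbV (h1 hv)) (inv_mem hbV)
    simpa [mul_assoc] using this
  intro ψ hψ hco
  obtain ⟨b, hb, n, hn, rfl⟩ := hdec ψ hψ
  obtain ⟨k, r, hr, hno⟩ := Nat.exists_eq_pow_mul_and_not_dvd (orderOf_pos n).ne' p
    (Fact.out : p.Prime).ne_one
  have hnV : n ^ p ^ k ∈ V := by
    refine le_sup_right (α := Subgroup _) (Subgroup.subset_closure ⟨⟨pow_mem hn.1 _, ?_⟩, ?_⟩)
    · have : ∀ (i : ℕ), ∀ c ∈ A, n ^ i * c * (n ^ i)⁻¹ ∈ A := by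
        intro i
        induction i with
        | zero => intro c hc; simpa using hc
        | succ i ih =>
          intro c hc
          have := hn.2 _ (ih c hc)
          rwa [pow_succ', mul_inv_rev, show n * n ^ i * c * ((n ^ i)⁻¹ * n⁻¹) =
            n * (n ^ i * c * (n ^ i)⁻¹) * n⁻¹ by group]
      exact this _
    · refine Nat.Coprime.coprime_dvd_left (orderOf_dvd_of_pow_eq_one (n := r) ?_)
        ((Fact.out : p.Prime).coprime_iff_not_dvd.2 hr).symm
      rw [← pow_mul, ← hno, pow_orderOf_eq_one]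
  exact hVFy (mem_of_coprime_mul (le_sup_left (α := Subgroup _) hb)
    (hVn n hn.1) hco hnV)

end CfsgLib.Fusion.SmallCent
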