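import Cfsg.Agent.Lib.Fusion.SylowTools
import Cfsg.Agent.Lib.PStab.MaxAdm
import Cfsg.Agent.Lib.Solvable.LagrangeConverse

/-!
Group lemmas: generation by a Sylow subgroup and the elements of order prime to `p`, and the
Thompson subgroup of a product with a central cyclic group.
-/

set_option autoImplicit false

namespace CfsgLib.Fusion.SmallCent

open Subgroup CfsgLib.PStab

variable {G : Type*} [Group G] {p : ℕ} [Fact p.Prime]

omit [Fact p.Prime] in
theorem pow_mul_mem {A : Subgroup G} {b g : G} (hb : b ∈ A) (hg : ∀ a ∈ A, g * a * g⁻¹ ∈ A) :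
    ∀ n : ℕ, (b * g) ^ n * (g ^ n)⁻¹ ∈ A := by
  intro n
  induction n with
  | zero => simp
  | succ n ih =>
    have h1 := A.mul_mem hb (hg _ ih)
    rw [pow_succ' (b * g), pow_succ g, mul_inv_rev]
    convert h1 using 1
    group

theorem mem_of_coprime_pow {A : Subgroup G} {x : G} (hx : (orderOf x).Coprime p) {k : ℕ}
    (h : x ^ p ^ k ∈ A) : x ∈ A := by
  obtain ⟨m, hm⟩ := exists_pow_eq_self_of_coprime (x := x) (hx.symm.pow_left k)
  rw [← hm]
  exact pow_mem h m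

/-- A coprime element times a normalized subgroup: only its `p`-power part matters. -/
theorem mem_of_coprime_mul {A : Subgroup G} {b g : G} (hb : b ∈ A) (hg : ∀ a ∈ A, g * a * g⁻¹ ∈ A)
    (hco : (orderOf (b * g)).Coprime p) {k : ℕ} (hk : g ^ p ^ k ∈ A) : b * g ∈ A := by
  refine mem_of_coprime_pow hco (k := k) ?_
  have h1 := A.mul_mem (pow_mul_mem hb hg (p ^ k)) hk
  rwa [inv_mul_cancel_right] at h1

theorem le_of_sylow_of_coprime [Finite G] {P A K : Subgroup G} (hPA : P ≤ A) (hAK : A ≤ K)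
    (hPK : ¬ p ∣ P.relIndex K) (h : ∀ x ∈ K, (orderOf x).Coprime p → x ∈ A) : K ≤ A := by
  rw [← Subgroup.relIndex_eq_one]
  by_contra hne
  obtain ⟨q, hq, hqd⟩ := Nat.exists_prime_and_dvd hne
  have hqp : q ≠ p := by
    rintro rfl
    exact hPK (hqd.trans (Dvd.intro_left _ (Subgroup.relIndex_mul_relIndex P A K hPA hAK)))
  have := Fact.mk hq
  obtain ⟨R⟩ : Nonempty (Sylow q K) := inferInstance
  refine R.not_dvd_index (hqd.trans (Subgroup.index_dvd_of_le fun x hx => ?_))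
  refine Subgroup.mem_subgroupOf.2 (h x x.2 ?_)
  rw [Subgroup.orderOf_coe]
  obtain ⟨k, hk⟩ := R.2 ⟨x, hx⟩
  refine Nat.Coprime.coprime_dvd_left (orderOf_dvd_of_pow_eq_one (n := q ^ k) ?_)
    (((Nat.coprime_primes hq Fact.out).2 hqp).pow_left k)
  exact congrArg Subtype.val hk

theorem not_dvd_relIndex_sup [Finite G] {P L K : Subgroup G}
    (hL : L ≤ normalizer (K : Set G)) (hPL : P ≤ L) (hi : ¬ p ∣ P.relIndex L) :
    ¬ p ∣ (P ⊔ K).relIndex (L ⊔ K) := by
  set N := normalizer (K : Set G)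
  have hKN : K ≤ N := Subgroup.le_normalizer
  have hn : (K.subgroupOf N).Normal := Subgroup.normal_in_normalizer
  have h1 := CfsgLib.Fusion.not_dvd_relIndex_map (p := p) (QuotientGroup.mk' (K.subgroupOf N))
    (T := P.subgroupOf N) (N := L.subgroupOf N)
    (fun x hx => Subgroup.mem_subgroupOf.2 (hPL (Subgroup.mem_subgroupOf.1 hx)))
    (by rwa [Subgroup.relIndex_subgroupOf hL])
  rwa [Subgroup.relIndex_map_map, QuotientGroup.ker_mk', ← Subgroup.subgroupOf_sup (hPL.trans hL) hKN,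
    ← Subgroup.subgroupOf_sup hL hKN, Subgroup.relIndex_subgroupOf (sup_le hL hKN)] at h1

omit [Fact p.Prime] in
theorem exists_mem_sup_of_commute {A B : Subgroup G} (h : ∀ a ∈ A, ∀ b ∈ B, a * b = b * a) {x : G}
    (hx : x ∈ A ⊔ B) : ∃ a ∈ A, ∃ b ∈ B, a * b = x := by
  have h1 : B ≤ normalizer (A : Set G) := fun b hb => by
    refine Subgroup.mem_normalizer_iff.2 fun a => ⟨fun ha => ?_, fun ha => ?_⟩
    · rwa [← h a ha b hb, mul_inv_cancel_right]
    · have h2 := h _ ha b hb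
      rw [inv_mul_cancel_right, mul_left_cancel_iff] at h2
      rwa [h2]
  have hx' : x ∈ ((A ⊔ B : Subgroup G) : Set G) := hx
  rw [Subgroup.coe_mul_of_right_le_normalizer_left _ _ h1] at hx'
  exact Set.mem_mul.1 hx'

omit [Fact p.Prime] in
theorem card_sup_mul_card_inf_of_comm {B Y : Subgroup G} [Finite ↥(B ⊔ Y)]
    [IsMulCommutative ↥(B ⊔ Y)] :
    Nat.card ↥(B ⊔ Y) * Nat.card ↥(B ⊓ Y) = Nat.card B * Nat.card Y := by
  set K := B ⊔ Y
  have hn : (B.subgroupOf K).Normal := ⟨fun n hn g => by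
    rwa [mul_comm' g n, mul_inv_cancel_right]⟩
  have h := CfsgLib.Solvable.card_sup_mul_card_inf (B.subgroupOf K) (Y.subgroupOf K)
  rw [← Subgroup.subgroupOf_sup le_sup_left le_sup_right, Subgroup.subgroupOf_self,
    Subgroup.card_top] at h
  rw [show B.subgroupOf K ⊓ Y.subgroupOf K = (B ⊓ Y).subgroupOf K from
    (Subgroup.comap_inf _ _ _).symm] at h
  rwa [Nat.card_congr (Subgroup.subgroupOfEquivOfLe (inf_le_left.trans le_sup_left : B ⊓ Y ≤ K)).toEquiv,
    Nat.card_congr (Subgroup.subgroupOfEquivOfLe (le_sup_left : B ≤ K)).toEquiv,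
    Nat.card_congr (Subgroup.subgroupOfEquivOfLe (le_sup_right : Y ≤ K)).toEquiv] at h

omit [Fact p.Prime] in
theorem maxAdm_nonempty_of_finite {D : Subgroup G} [Finite D] : (maxAdm 0 D).Nonempty := by
  obtain ⟨A, hA⟩ := maxAdm_nonempty 0 (⊤ : Subgroup D)
  have h1 : A.map D.subtype ∈ maxAdm 0 ((⊤ : Subgroup D).map D.subtype) := by
    rw [maxAdm_map D.subtype_injective]
    exact ⟨A, hA, rfl⟩
  rw [← MonoidHom.range_eq_map, Subgroup.range_subtype] at h1
  exact ⟨_, h1⟩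

omit [Fact p.Prime] in
theorem adm_zero {A : Subgroup G} (hA : IsMulCommutative A) : Adm 0 A :=
  ⟨hA, fun _ _ => pow_zero _⟩

omit [Fact p.Prime] in
/-- A maximal abelian subgroup of largest order contains what centralizes it. -/
theorem mem_of_commute {D A : Subgroup G} [Finite D] (hA : A ∈ maxAdm 0 D) {x : G} (hxD : x ∈ D)
    (hx : ∀ a ∈ A, x * a = a * x) : x ∈ A := by
  set B := Subgroup.closure (insert x (A : Set G))
  have hcm : ∀ u ∈ insert x (A : Set G), ∀ v ∈ insert x (A : Set G), u * v = v * u := by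
    rintro u (rfl | hu) v (rfl | hv)
    · rfl
    · exact hx v hv
    · exact (hx u hu).symm
    · exact adm_comm hA.2.1 hu hv
  have hBD : B ≤ D := (Subgroup.closure_le _).2 (Set.insert_subset hxD hA.1)
  have : Finite B := Finite.of_injective _ (Subgroup.inclusion_injective hBD)
  have hAB : A ≤ B := fun a ha => Subgroup.subset_closure (Set.mem_insert_of_mem _ ha)
  rw [Subgroup.eq_of_le_of_card_ge hAB
    (hA.2.2 B hBD (adm_zero (Subgroup.isMulCommutative_closure hcm)))]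
  exact Subgroup.subset_closure (Set.mem_insert _ _)

omit [Fact p.Prime] in
theorem mem_jGen_of_commute {D : Subgroup G} [Finite D] {x : G} (hxD : x ∈ D)
    (hx : ∀ a ∈ jGen 0 D, x * a = a * x) : x ∈ jGen 0 D := by
  obtain ⟨A, hA⟩ := maxAdm_nonempty_of_finite (D := D)
  exact le_jGen hA (mem_of_commute hA hxD fun a ha => hx a (le_jGen hA ha))

omit [Fact p.Prime] in
theorem conj_mem_jGen {D : Subgroup G} {g x : G} (hg : g ∈ normalizer (D : Set G))
    (hx : x ∈ jGen 0 D) : g * x * g⁻¹ ∈ jGen 0 D := by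
  have hD : D.map (MulAut.conj g).toMonoidHom = D := by
    ext y
    constructor
    · rintro ⟨d, hd, rfl⟩; exact (Subgroup.mem_normalizer_iff.1 hg d).1 hd
    · intro hy
      exact ⟨g⁻¹ * y * g, (Subgroup.mem_normalizer_iff''.1 hg y).1 hy, by simp [mul_assoc]⟩
  have h := jGen_map (e := 0) (MulAut.conj g).injective (f := (MulAut.conj g).toMonoidHom) D
  rw [hD] at h
  rw [h]
  exact ⟨x, hx, rfl⟩

omit [Fact p.Prime] in
/-- `J(P Y) ∩ T = J(P)` for a central cyclic group `Y`. -/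
theorem jGen_sup_inf {P T : Subgroup G} {y : G} [Finite ↥(P ⊔ zpowers y)] (hPT : P ≤ T)
    (hy : ∀ u ∈ P, u * y = y * u) (hYT : ∀ x ∈ zpowers y, x ∈ T → x ∈ P) :
    jGen 0 (P ⊔ zpowers y) ⊓ T = jGen 0 P := by
  set Y := zpowers y
  set M := P ⊔ Y
  have : Finite P := Finite.of_injective _ (Subgroup.inclusion_injective (le_sup_left : P ≤ M))
  have : Finite Y := Finite.of_injective _ (Subgroup.inclusion_injective (le_sup_right : Y ≤ M))
  have hyP : ∀ u ∈ P, ∀ z ∈ Y, u * z = z * u := by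
    intro u hu z hz
    obtain ⟨i, rfl⟩ := Subgroup.mem_zpowers_iff.1 hz
    exact ((show Commute u y from hy u hu).zpow_right i).eq
  have hsup : ∀ B ≤ P, IsMulCommutative B → IsMulCommutative ↥(B ⊔ Y) := by
    intro B hBP hB
    refine ⟨⟨fun a b => Subtype.ext ?_⟩⟩
    obtain ⟨a₁, ha₁, a₂, ha₂, ea⟩ := exists_mem_sup_of_commute (fun u hu => hyP u (hBP hu)) a.2
    obtain ⟨b₁, hb₁, b₂, hb₂, eb⟩ := exists_mem_sup_of_commute (fun u hu => hyP u (hBP hu)) b.2
    change (a : G) * b = b * a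
    rw [← ea, ← eb]
    have h1 : Commute a₁ b₁ := congrArg Subtype.val (hB.is_comm.comm ⟨a₁, ha₁⟩ ⟨b₁, hb₁⟩)
    have h2 : Commute a₂ b₂ := congrArg Subtype.val (mul_comm' (⟨a₂, ha₂⟩ : Y) ⟨b₂, hb₂⟩)
    have h3 : Commute a₁ b₂ := hyP _ (hBP ha₁) _ hb₂
    have h4 : Commute a₂ b₁ := (hyP _ (hBP hb₁) _ ha₂).symm
    exact ((h1.mul_right h3).mul_left (h4.mul_right h2)).eq
  have hcard : ∀ B ≤ P, IsMulCommutative B → P ⊓ Y ≤ B →
      Nat.card ↥(B ⊔ Y) * Nat.card ↥(P ⊓ Y) = Nat.card B * Nat.card Y := by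
    intro B hBP hB hW
    have := hsup B hBP hB
    have : Finite ↥(B ⊔ Y) := Finite.of_injective _
      (Subgroup.inclusion_injective (sup_le_sup_right hBP Y : B ⊔ Y ≤ M))
    rw [← card_sup_mul_card_inf_of_comm (B := B),
      le_antisymm (le_inf hW inf_le_right) (inf_le_inf_right Y hBP)]
  have hPY : ∀ B ∈ maxAdm 0 P, P ⊓ Y ≤ B := fun B hB x hx =>
    mem_of_commute hB hx.1 fun a ha => (hyP a (hB.1 ha) x hx.2).symm
  have hA : ∀ A ∈ maxAdm 0 M, Y ≤ A ∧ A = (A ⊓ P) ⊔ Y ∧ IsMulCommutative ↥(A ⊓ P) := by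
    intro A hA
    have hy' : ∀ z ∈ Y, z ∈ A := fun z hz => mem_of_commute hA (le_sup_right (a := P) hz) fun a ha => by
      obtain ⟨u, hu, w, hw, rfl⟩ := exists_mem_sup_of_commute hyP (hA.1 ha)
      have h1 : Commute z u := (hyP u hu z hz).symm
      have h2 : Commute z w := congrArg Subtype.val (mul_comm' (⟨z, hz⟩ : Y) ⟨w, hw⟩)
      exact (h1.mul_right h2).eq
    refine ⟨hy', le_antisymm (fun a ha => ?_) (sup_le inf_le_left hy'), ⟨⟨fun a b => Subtype.ext
      (adm_comm hA.2.1 a.2.1 b.2.1)⟩⟩⟩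
    obtain ⟨u, hu, w, hw, rfl⟩ := exists_mem_sup_of_commute hyP (hA.1 ha)
    refine Subgroup.mul_mem_sup ⟨?_, hu⟩ hw
    simpa using A.mul_mem ha (A.inv_mem (hy' w hw))
  obtain ⟨A₀, hA₀⟩ := maxAdm_nonempty_of_finite (D := M)
  obtain ⟨B₀, hB₀⟩ := maxAdm_nonempty_of_finite (D := P)
  have hbnd : ∀ A ∈ maxAdm 0 M, ∀ B ∈ maxAdm 0 P, Nat.card B ≤ Nat.card ↥(A ⊓ P) := by
    intro A hAm B hB
    obtain ⟨hYA, hAe, hAc⟩ := hA A hAm
    have h1 := hcard B hB.1 hB.2.1.1 (hPY B hB)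
    have h2 := hcard (A ⊓ P) inf_le_right hAc (le_inf (inf_le_right.trans hYA) inf_le_left)
    rw [← hAe] at h2
    have h3 : Nat.card ↥(B ⊔ Y) ≤ Nat.card A :=
      hAm.2.2 _ (sup_le_sup_right hB.1 Y) (adm_zero (hsup B hB.1 hB.2.1.1))
    have h4 : Nat.card B * Nat.card Y ≤ Nat.card ↥(A ⊓ P) * Nat.card Y := by
      rw [← h1, ← h2]; exact Nat.mul_le_mul_right _ h3
    exact Nat.le_of_mul_le_mul_right h4 Nat.card_pos
  refine le_antisymm ?_ (le_inf (sSup_le fun B hB => ?_) ((jGen_le 0 P).trans hPT))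
  · have hle : jGen 0 M ≤ jGen 0 P ⊔ Y := sSup_le fun A hAm => by
      obtain ⟨hYA, hAe, hAc⟩ := hA A hAm
      rw [hAe]
      refine sup_le_sup_right (le_jGen ⟨inf_le_right, adm_zero hAc, fun B hB hBa => ?_⟩) Y
      exact (hB₀.2.2 B hB hBa).trans (hbnd A hAm B₀ hB₀)
    rintro x ⟨hx, hxT⟩
    obtain ⟨u, hu, w, hw, rfl⟩ :=
      exists_mem_sup_of_commute (fun u hu => hyP u (jGen_le 0 P hu)) (hle hx)
    refine Subgroup.mul_mem _ hu (le_jGen hB₀ (hPY B₀ hB₀ ⟨hYT w hw ?_, hw⟩))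
    simpa using T.mul_mem (T.inv_mem (hPT (jGen_le 0 P hu))) hxT
  · have hBY : B ⊔ Y ∈ maxAdm 0 M := by
      refine ⟨sup_le_sup_right hB.1 Y, adm_zero (hsup B hB.1 hB.2.1.1), fun C hC hCa => ?_⟩
      obtain ⟨hYA, hAe, hAc⟩ := hA A₀ hA₀
      refine (hA₀.2.2 C hC hCa).trans ?_
      have h1 := hcard B hB.1 hB.2.1.1 (hPY B hB)
      have h2 := hcard (A₀ ⊓ P) inf_le_right hAc (le_inf (inf_le_right.trans hYA) inf_le_left)
      rw [← hAe] at h2
      have h3 : Nat.card ↥(A₀ ⊓ P) ≤ Nat.card B := hB.2.2 _ inf_le_right (adm_zero hAc)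
      have h4 : Nat.card A₀ * Nat.card ↥(P ⊓ Y) ≤ Nat.card ↥(B ⊔ Y) * Nat.card ↥(P ⊓ Y) := by
        rw [h1, h2]; exact Nat.mul_le_mul_right _ h3
      have : Finite ↥(P ⊓ Y) := Finite.of_injective _
        (Subgroup.inclusion_injective (inf_le_left : P ⊓ Y ≤ P))
      exact Nat.le_of_mul_le_mul_right h4 Nat.card_pos
    exact le_sup_left.trans (le_jGen hBY)

end CfsgLib.Fusion.SmallCent
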