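import Cfsg.Agent.Lib.Fusion.CentralizerInSubsystem
import Cfsg.Agent.Lib.Fusion.SmallCentralizer.Generic

/-!
The automorphisms of `Q C_S(T)` trivial modulo `T` which restrict to a normal subsystem, and their
transport along maps of the system.
-/

set_option autoImplicit false

open Cfsg Cfsg.FusionSystem

namespace CfsgLib.Fusion.SmallCent

open CfsgLib.PStab (jGen jGen_le)

variable {Ω : Type*} [Group Ω] {S T : Subgroup Ω} [Finite S] {F : FusionSystem S}
  {E : FusionSystem T} {p : ℕ} [Fact p.Prime]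

variable (F E) in
/-- The automorphisms of `Q C_S(T)` trivial modulo `T` whose restriction to `Q` lies in `E`. -/
def extAut (hE : E.IsInvariantIn F) (Q : Subgroup Ω) :
    Subgroup (MulAut ↥(Q ⊔ centralizerIn S T)) where
  carrier := {ψ | ψ ∈ F.autGroup (Q ⊔ centralizerIn S T) ∧
    (∀ x : ↥(Q ⊔ centralizerIn S T), (x : Ω)⁻¹ * (ψ x : Ω) ∈ T) ∧
    ∃ a ∈ E.autGroup Q, ∀ x : Q,
      (ψ (Subgroup.inclusion le_sup_left x) : Ω) = ((a x : Q) : Ω)}
  one_mem' := ⟨one_mem _, fun x => by simp, 1, one_mem _, fun _ => rfl⟩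
  mul_mem' := by
    rintro ψ φ ⟨hψ, hψT, a, ha, hae⟩ ⟨hφ, hφT, b, hb, hbe⟩
    refine ⟨mul_mem hψ hφ, fun x => ?_, a * b, mul_mem ha hb, fun x => ?_⟩
    · rw [MulAut.mul_apply]
      simpa [mul_assoc] using T.mul_mem (hφT x) (hψT (φ x))
    · rw [MulAut.mul_apply, show φ (Subgroup.inclusion le_sup_left x) =
        Subgroup.inclusion le_sup_left (b x) from Subtype.ext (hbe x), hae, MulAut.mul_apply]
  inv_mem' := by
    rintro ψ ⟨hψ, hψT, a, ha, hae⟩
    refine ⟨inv_mem hψ, fun x => ?_, a⁻¹, inv_mem ha, fun x => ?_⟩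
    · simpa using T.inv_mem (hψT (ψ⁻¹ x))
    · rw [show ψ⁻¹ (Subgroup.inclusion le_sup_left x) = Subgroup.inclusion le_sup_left (a⁻¹ x) from
        ψ.injective (by
          rw [MulAut.apply_inv_self]
          exact Subtype.ext (by rw [hae, MulAut.apply_inv_self]; rfl))]
      rfl

variable (F T) in
/-- The normal closure of `Aut_T(M)` in `Aut_F(M)`. -/
def closAut (M : Subgroup Ω) : Subgroup (MulAut M) :=
  Subgroup.closure {a | ∃ b ∈ autInducedBy T M, ∃ β ∈ F.autGroup M, a = β * b * β⁻¹}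

variable (F E) in
/-- Every such automorphism of order prime to `p` fixes `y`. -/
def FixAt (hE : E.IsInvariantIn F) (p : ℕ) (Q : Subgroup Ω) (y : Ω) : Prop :=
  ∀ ψ ∈ extAut F E hE Q, (orderOf ψ).Coprime p →
    ∀ x : ↥(Q ⊔ centralizerIn S T), (x : Ω) = y → (ψ x : Ω) = y

variable (F E) in
/-- The elements fixed at the bottom of the descent. -/
def IsBase (hE : E.IsInvariantIn F) (p : ℕ) (y : Ω) : Prop :=
  y ∈ centralizerIn S T ∧ FixAt F E hE p T y ∧
    ∀ ψ ∈ closAut T F (jGen 0 T ⊔ centralizerIn S T),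
      ∀ x : ↥(jGen 0 T ⊔ centralizerIn S T), (x : Ω) = y → (ψ x : Ω) = y

omit [Finite S] [Fact p.Prime] in
theorem sup_le_S (hT : F.StronglyClosed T) {Q : Subgroup Ω} (hQ : Q ≤ T) :
    Q ⊔ centralizerIn S T ≤ S := sup_le (hQ.trans hT.1) (centralizerIn_le T)

omit [Finite S] [Fact p.Prime] in
theorem commute_C {t c : Ω} (ht : t ∈ T) (hc : c ∈ centralizerIn S T) : t * c = c * t := hc.2 t ht

omit [Finite S] [Fact p.Prime] in
theorem exists_mem_mul {Q : Subgroup Ω} (hQ : Q ≤ T) {x : Ω} (hx : x ∈ Q ⊔ centralizerIn S T) :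
    ∃ q ∈ Q, ∃ c ∈ centralizerIn S T, q * c = x :=
  exists_mem_sup_of_commute (fun _ hq _ hc => commute_C (hQ hq) hc) hx

omit [Finite S] [Fact p.Prime] in
/-- `(Q C) ∩ T = Q` for centric `Q`. -/
theorem mem_of_mem_sup {Q : Subgroup Ω} (hQ : E.IsCentric Q) {x : Ω}
    (hx : x ∈ Q ⊔ centralizerIn S T) (hxT : x ∈ T) : x ∈ Q := by
  obtain ⟨q, hq, c, hc, rfl⟩ := exists_mem_mul hQ.1 hx
  have hcT : c ∈ T := by simpa using T.mul_mem (T.inv_mem (hQ.1 hq)) hxT
  refine Q.mul_mem hq (hQ.2 Q (isConj_refl hQ.1) ⟨hcT, fun r hr => ?_⟩)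
  exact commute_C (hQ.1 hr) hc

omit [Finite S] [Fact p.Prime] in
theorem apply_mem_left (hE : E.IsInvariantIn F) {Q : Subgroup Ω} (hQ : E.IsCentric Q)
    {ψ : MulAut ↥(Q ⊔ centralizerIn S T)} (hψ : ψ ∈ F.autGroup (Q ⊔ centralizerIn S T))
    {x : ↥(Q ⊔ centralizerIn S T)} (hx : (x : Ω) ∈ Q) : (ψ x : Ω) ∈ Q :=
  mem_of_mem_sup hQ (ψ x).2 (autGroup_apply_mem hE.2.1 hψ (hQ.1 hx))

omit [Finite S] [Fact p.Prime] in
theorem mem_normalizer_C [Finite S] (hT : F.StronglyClosed T) {s : Ω} (hs : s ∈ S) :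
    s ∈ Subgroup.normalizer (centralizerIn S T : Set Ω) := by
  have := finite_of_le (centralizerIn_le (S := S) T)
  refine mem_normalizer_of_forall fun c hc => ⟨S.mul_mem (S.mul_mem hs hc.1) (S.inv_mem hs), ?_⟩
  intro t ht
  have h1 : s⁻¹ * t * s ∈ T :=
    (Subgroup.mem_normalizer_iff''.1 (mem_normalizer_of_stronglyClosed hT hs) t).1 ht
  have h2 := hc.2 _ h1
  change t * (s * c * s⁻¹) = s * c * s⁻¹ * t
  calc t * (s * c * s⁻¹) = s * ((s⁻¹ * t * s) * c) * s⁻¹ := by group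
    _ = _ := by rw [h2]; group

omit [Fact p.Prime] in
theorem mem_normalizer_sup_C (hT : F.StronglyClosed T) {Q : Subgroup Ω} {s : Ω} (hs : s ∈ S)
    (hsQ : s ∈ Subgroup.normalizer (Q : Set Ω)) (hQ : Q ≤ T) :
    s ∈ Subgroup.normalizer ((Q ⊔ centralizerIn S T : Subgroup Ω) : Set Ω) := by
  have := finite_of_le (sup_le_S (F := F) hT hQ)
  refine mem_normalizer_of_forall fun x hx => ?_
  obtain ⟨q, hq, c, hc, rfl⟩ := exists_mem_mul hQ hx
  have h := Subgroup.mul_mem_sup (conj_mem_of_mem_normalizer hsQ hq)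
    (conj_mem_of_mem_normalizer (mem_normalizer_C hT hs) hc)
  rwa [show s * q * s⁻¹ * (s * c * s⁻¹) = s * (q * c) * s⁻¹ by group] at h

omit [Fact p.Prime] in
/-- A conjugation by an element of `N_T(Q)`. -/
theorem autInducedBy_le_extAut (hE : E.IsInvariantIn F) {Q : Subgroup Ω} (hQ : E.IsCentric Q) :
    autInducedBy T (Q ⊔ centralizerIn S T) ≤ extAut F E hE Q := by
  intro a ha
  obtain ⟨t, ht, hte⟩ := mem_autInducedBy_iff.1 ha
  have htS := hE.2.1.1 ht
  have haF : a ∈ F.autGroup (Q ⊔ centralizerIn S T) :=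
    autInducedBy_le_autGroup (sup_le_S hE.2.1 hQ.1)
      (mem_autInducedBy_iff.2 ⟨t, htS, hte⟩)
  have htQ : t ∈ Subgroup.normalizer (Q : Set Ω) := by
    have := finite_of_le (hQ.1.trans hE.2.1.1)
    refine mem_normalizer_of_forall fun x hx => ?_
    have h1 := apply_mem_left hE hQ haF (x := ⟨x, le_sup_left (b := centralizerIn S T) hx⟩) hx
    rwa [hte] at h1
  refine ⟨haF, fun x => ?_, normAut t htQ,
    autInducedBy_le_autGroup hQ.1 (mem_autInducedBy_iff.2 ⟨t, ht, fun _ => rfl⟩), fun x => ?_⟩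
  · rw [hte]
    have h1 := conj_mem_of_mem_normalizer
      (mem_normalizer_of_stronglyClosed hE.2.1
        (S.inv_mem (sup_le_S hE.2.1 hQ.1 x.2))) ht
    have h2 := T.mul_mem h1 (T.inv_mem ht)
    rwa [inv_inv, mul_assoc ((x : Ω)⁻¹ * t), mul_assoc, ← mul_assoc t] at h2
  · rw [hte]
    rfl

omit [Fact p.Prime] in
/-- A map of the system between two such groups respects the construction. -/
theorem congr_mem_extAut (hE : E.IsInvariantIn F) {Q Q' : Subgroup Ω} (hQ : E.IsCentric Q)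
    (hQ' : E.IsCentric Q') {e : ↥(Q ⊔ centralizerIn S T) ≃* ↥(Q' ⊔ centralizerIn S T)}
    (he : IsIso F e) {ψ : MulAut ↥(Q ⊔ centralizerIn S T)} (hψ : ψ ∈ extAut F E hE Q) :
    MulAut.congr e ψ ∈ extAut F E hE Q' := by
  obtain ⟨hψF, hψT, a, ha, hae⟩ := hψ
  have hT := hE.2.1
  have hmap : ∀ {P P' : Subgroup Ω} {f : ↥P ≃* ↥P'}, IsIso F f → ∀ x : P, (x : Ω) ∈ T →
      (f x : Ω) ∈ T := fun {P P' f} hf x hx =>
    hT.2 _ inf_le_right _ (res_mem F hf (inf_le_left : P ⊓ T ≤ P)) ⟨x, x.2, hx⟩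
  have hQle : Q ≤ Q ⊔ centralizerIn S T := le_sup_left
  obtain ⟨f, hf, hfe⟩ := exists_iso_of_range (res_mem F he hQle)
    (show ((((Q' ⊔ centralizerIn S T).subtype.comp e.toMonoidHom)).comp
        (Subgroup.inclusion hQle)).range = Q' from by
      refine le_antisymm ?_ fun y hy => ?_
      · rintro _ ⟨x, rfl⟩
        exact mem_of_mem_sup hQ' (e (Subgroup.inclusion hQle x)).2
          (hmap he _ (hQ.1 x.2))
      · refine ⟨⟨_, mem_of_mem_sup hQ (e.symm ⟨y, le_sup_left (b := centralizerIn S T) hy⟩).2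
          (hmap he.symm _ (hQ'.1 hy))⟩, ?_⟩
        change (e (e.symm _) : Ω) = y
        rw [MulEquiv.apply_symm_apply])
  refine ⟨congr_mem_autGroup he hψF, fun x => ?_, MulAut.congr f a,
    congr_mem_of_conjClosed hE.1 (conjClosed_of_isInvariantIn hE) hf hQ.1 hQ'.1 ha, fun x => ?_⟩
  · change (x : Ω)⁻¹ * (e (ψ (e.symm x)) : Ω) ∈ T
    have h1 := hmap he ((e.symm x)⁻¹ * ψ (e.symm x)) (by simpa using hψT (e.symm x))
    rwa [map_mul, map_inv, MulEquiv.apply_symm_apply, Subgroup.coe_mul, Subgroup.coe_inv] at h1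
  · change (e (ψ (e.symm (Subgroup.inclusion le_sup_left x))) : Ω) = (f (a (f.symm x)) : Ω)
    have h1 : e.symm (Subgroup.inclusion le_sup_left x) = Subgroup.inclusion hQle (f.symm x) := by
      rw [MulEquiv.symm_apply_eq]
      refine Subtype.ext ?_
      have h2 := hfe (f.symm x)
      rw [MulEquiv.apply_symm_apply] at h2
      exact h2
    rw [h1, show ψ (Subgroup.inclusion hQle (f.symm x)) = Subgroup.inclusion hQle (a (f.symm x)) from
      Subtype.ext (hae _)]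
    exact (hfe _).symm

omit [Fact p.Prime] in
theorem extAut_conj_mem (hE : E.IsInvariantIn F) {Q : Subgroup Ω} (hQ : E.IsCentric Q)
    {β ψ : MulAut ↥(Q ⊔ centralizerIn S T)} (hβ : β ∈ F.autGroup (Q ⊔ centralizerIn S T))
    (hψ : ψ ∈ extAut F E hE Q) : β * ψ * β⁻¹ ∈ extAut F E hE Q :=
  congr_mem_extAut hE hQ hQ (e := β)
    ((mem_autGroup_iff F (sup_le_S hE.2.1 hQ.1)).1 hβ) hψ

omit [Fact p.Prime] in
theorem closAut_le_extAut (hE : E.IsInvariantIn F) {Q : Subgroup Ω} (hQ : E.IsCentric Q) :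
    closAut T F (Q ⊔ centralizerIn S T) ≤ extAut F E hE Q :=
  (Subgroup.closure_le _).2 (by
    rintro _ ⟨b, hb, β, hβ, rfl⟩
    exact extAut_conj_mem hE hQ hβ (autInducedBy_le_extAut hE hQ hb))

omit [Finite S] [Fact p.Prime] in
theorem closAut_conj_mem {M : Subgroup Ω} {β a : MulAut M} (hβ : β ∈ F.autGroup M)
    (ha : a ∈ closAut T F M) : β * a * β⁻¹ ∈ closAut T F M := by
  have h1 : closAut T F M ≤ (closAut T F M).comap (MulAut.conj β).toMonoidHom :=
    (Subgroup.closure_le _).2 (by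
      rintro _ ⟨b, hb, γ, hγ, rfl⟩
      exact Subgroup.subset_closure ⟨b, hb, β * γ, mul_mem hβ hγ, by
        change β * (γ * b * γ⁻¹) * β⁻¹ = _
        group⟩)
  exact h1 ha

omit [Fact p.Prime] in
/-- Fixed points are transported. -/
theorem fixAt_transport (hE : E.IsInvariantIn F) {Q Q' : Subgroup Ω} (hQ : E.IsCentric Q)
    (hQ' : E.IsCentric Q') {e : ↥(Q ⊔ centralizerIn S T) ≃* ↥(Q' ⊔ centralizerIn S T)}
    (he : IsIso F e) {y : Ω} (x₀ : ↥(Q ⊔ centralizerIn S T)) (hx₀ : (x₀ : Ω) = y)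
    (h : FixAt F E hE p Q' (e x₀ : Ω)) : FixAt F E hE p Q y := by
  intro ψ hψ hco x hx
  obtain rfl : x = x₀ := Subtype.ext (hx.trans hx₀.symm)
  have h1 := h _ (congr_mem_extAut hE hQ hQ' he hψ) (by rwa [MulEquiv.orderOf_eq]) (e x) rfl
  have h2 : MulAut.congr e ψ (e x) = e (ψ x) := by
    change e (ψ (e.symm (e x))) = e (ψ x)
    rw [MulEquiv.symm_apply_apply]
  rw [h2] at h1
  rw [e.injective (Subtype.ext h1)]
  exact hx

omit [Fact p.Prime] in
/-- A `p`-subgroup normalizing `Q` and `C` acts on `Q C`. -/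
theorem exists_autInducedBy (hT : F.StronglyClosed T) {Q : Subgroup Ω} (hQ : Q ≤ T) {t : Ω}
    (ht : t ∈ T) (htQ : t ∈ Subgroup.normalizer (Q : Set Ω)) :
    normAut t (mem_normalizer_sup_C hT (hT.1 ht) htQ hQ) ∈
      autInducedBy T (Q ⊔ centralizerIn S T) :=
  mem_autInducedBy_iff.2 ⟨t, ht, fun _ => rfl⟩

end CfsgLib.Fusion.SmallCent
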