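import Cfsg.Agent.Lib.Fusion.SmallCentralizer.Average

/-!
The descent, and the two conclusions about the centralizer of the group of a normal subsystem.
-/

set_option autoImplicit false

open Cfsg Cfsg.FusionSystem

namespace CfsgLib.Fusion.SmallCent

open CfsgLib.PStab (jGen jGen_le le_jGen jGen_map)

universe u

variable {Ω : Type u} [Group Ω] {S T : Subgroup Ω} [Finite S] {F : FusionSystem S}
  {E : FusionSystem T} {p : ℕ} [Fact p.Prime]

omit [Fact p.Prime] in
theorem centralizerIn_jGen_le [Fact p.Prime] (hT : IsPGroup p T) [Finite T] {Q : Subgroup Ω}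
    (hQT : Q ≤ T) (hJQ : jGen 0 (normalizerIn T Q) ≤ Q) :
    centralizerIn T (jGen 0 (normalizerIn T Q)) ≤ jGen 0 (normalizerIn T Q) := by
  set P := normalizerIn T Q
  set J := jGen 0 P
  set D := centralizerIn T J
  have hQP : Q ≤ P := le_normalizerIn hQT
  have hPT : P ≤ T := normalizerIn_le Q
  have := finite_of_le (S := T) hPT
  have hQD : Q ≤ Subgroup.normalizer (D : Set Ω) := by
    intro q hq
    have := finite_of_le (S := T) (centralizerIn_le (S := T) J)
    refine mem_normalizer_of_forall fun d hd =>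
      ⟨T.mul_mem (T.mul_mem (hQT hq) hd.1) (T.inv_mem (hQT hq)), fun j hj => ?_⟩
    have hj' : q⁻¹ * j * q ∈ J := by
      simpa using conj_mem_jGen (Subgroup.le_normalizer (P.inv_mem (hQP hq))) hj
    have h1 := hd.2 _ hj'
    change j * (q * d * q⁻¹) = q * d * q⁻¹ * j
    calc j * (q * d * q⁻¹) = q * ((q⁻¹ * j * q) * d) * q⁻¹ := by group
      _ = _ := by rw [h1]; group
  have hMT : Q ⊔ D ≤ T := sup_le hQT (centralizerIn_le J)
  have := finite_of_le (S := T) hMT
  have hDQ : Q ⊔ D ≤ Q := by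
    by_contra hne
    obtain ⟨x, hx, hxQ⟩ := Set.exists_of_ssubset (lt_normalizerIn (hT.to_le hMT)
      (lt_of_le_not_ge le_sup_left hne))
    have hxM : x ∈ ((Q ⊔ D : Subgroup Ω) : Set Ω) := hx.1
    rw [Subgroup.coe_mul_of_left_le_normalizer_right _ _ hQD] at hxM
    obtain ⟨q, hq, d, hd, rfl⟩ := Set.mem_mul.1 hxM
    have hdP : d ∈ P := by
      have h1 : q * d ∈ P := ⟨hMT hx.1, hx.2⟩
      simpa using P.mul_mem (P.inv_mem (hQP hq)) h1
    exact hxQ (Q.mul_mem hq (hJQ (mem_jGen_of_commute hdP fun a ha => (hd.2 a ha).symm)))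
  intro d hd
  exact mem_jGen_of_commute (hQP (hDQ (le_sup_right (a := Q) hd))) fun a ha => (hd.2 a ha).symm

/-- `J(N_T(Q))` is centric when it lies in the fully normalized centric subgroup `Q`. -/
theorem isCentric_jGen (hT : IsPGroup p T) [Finite T] (hEs : E.IsSaturated p) {Q : Subgroup Ω}
    (hQ : E.IsCentric Q) (hQn : E.IsFullyNormalized Q) (hJQ : jGen 0 (normalizerIn T Q) ≤ Q) :
    E.IsCentric (jGen 0 (normalizerIn T Q)) := by
  set P := normalizerIn T Q
  set J := jGen 0 P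
  have hQP : Q ≤ P := le_normalizerIn hQ.1
  have hPT : P ≤ T := normalizerIn_le Q
  have := finite_of_le (S := T) hPT
  have hJT : J ≤ T := hJQ.trans hQ.1
  obtain ⟨J₂, hJJ₂, hJ₂n⟩ := exists_fullyNormalized E hJT
  set U := normalizerIn T J with hU
  obtain ⟨e, hle, he, ψ, hψ, hψe, -⟩ := exists_hom_normalizerIn_of_fullyNormalized hT hEs hJ₂n hJJ₂
  have hPU : P ≤ U := fun u hu => ⟨hu.1, by
    have := finite_of_le (S := T) hJT
    exact mem_normalizer_of_forall fun x hx => conj_mem_jGen (Subgroup.le_normalizer hu) hx⟩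
  have hQU : Q ≤ U := hQP.trans hPU
  have hψi := E.injective_of_mem hψ
  set Q₂ := img ψ Q with hQ₂
  have hQQ₂ : E.IsConj Q Q₂ :=
    ⟨_, res_mem E hψ hQU, range_comp_inclusion ψ hQU⟩
  have hQ₂T : Q₂ ≤ T := (img_le_range ψ Q).trans (range_le_S E hψ)
  have := finite_of_le (S := T) hQ₂T
  -- the normalizer is transported
  have hψP : img ψ P = normalizerIn T Q₂ := by
    have := finite_of_le (S := T) (normalizerIn_le (S := T) Q₂)
    refine Subgroup.eq_of_le_of_card_ge ?_ ((hQn.2 _ hQQ₂).trans (card_img hψi hPU).ge)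
    intro y hy
    obtain ⟨x, hx, rfl⟩ := mem_img.1 hy
    refine ⟨apply_mem_S E hψ x, mem_normalizer_of_forall fun z hz => ?_⟩
    obtain ⟨w, hw, rfl⟩ := mem_img.1 hz
    rw [← map_inv, ← map_mul, ← map_mul]
    exact apply_mem_img ψ (conj_mem_of_mem_normalizer hx.2 hw)
  have hJ₂ : img ψ J = J₂ := by
    refine (range_comp_inclusion ψ hle).symm.trans ?_
    rw [show ψ.comp (Subgroup.inclusion hle) = J₂.subtype.comp e.toMonoidHom from
      MonoidHom.ext hψe, range_subtype_comp]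
  have hJmap : img ψ J = jGen 0 (img ψ P) := apply_mem_jGen hψi hPU
  have hJQ₂ : jGen 0 (normalizerIn T Q₂) ≤ Q₂ := by
    rw [← hψP, ← hJmap]
    exact img_mono ψ hJQ
  have hJ₂c : centralizerIn T J₂ ≤ J₂ := by
    have h := centralizerIn_jGen_le (p := p) hT hQ₂T hJQ₂
    rwa [← hψP, ← hJmap, hJ₂] at h
  refine ⟨hJT, fun R hR => ?_⟩
  have hJ₂R : E.IsConj J₂ R := isConj_trans (isConj_symm hJJ₂) hR
  have hcc := (isFullyCentralized_of_isReceptive
    (fullyAutomized_receptive_of_fullyNormalized hT hEs hJ₂n).2).2 R hJ₂R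
  obtain ⟨φ, hφ, rfl⟩ := hJ₂R
  intro c hc
  have := finite_of_le (S := T) (centralizerIn_le (S := T) J₂)
  have := finite_of_le (S := T) (centralizerIn_le (S := T) φ.range)
  let f : centralizerIn T J₂ → centralizerIn T φ.range := fun d =>
    ⟨φ ⟨d, hJ₂c d.2⟩, apply_mem_S E hφ _, by
      rintro _ ⟨x, rfl⟩
      have h2 := congrArg φ (show x * ⟨d, hJ₂c d.2⟩ = ⟨d, hJ₂c d.2⟩ * x from
        Subtype.ext (d.2.2 x x.2))
      rw [map_mul, map_mul] at h2
      exact h2⟩
  have hfi : Function.Injective f := fun a b h =>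
    Subtype.ext (congrArg Subtype.val (E.injective_of_mem hφ (congrArg Subtype.val h) :) :)
  obtain ⟨d, hd⟩ := (hfi.bijective_of_nat_card_le hcc).2 ⟨c, hc⟩
  exact ⟨_, congrArg Subtype.val hd⟩

variable (hS : IsPGroup p S) (hE : E.IsNormalIn F p) (hp2 : p ≠ 2)

include hS hE in
theorem isCentric_jGen_top : E.IsCentric (jGen 0 T) := by
  have hTS := hE.1.2.2.2.1.1
  have := finite_of_le hTS
  have hN : normalizerIn T T = T :=
    le_antisymm (normalizerIn_le T) (le_normalizerIn le_rfl)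
  have h := isCentric_jGen (hS.to_le hTS) hE.1.1 (Q := T) isCentric_top_sub isFullyNormalized_self
    (by rw [hN]; exact jGen_le 0 T)
  rwa [hN] at h

include hS hE in
/-- The bottom of the descent. -/
theorem fixAt_jGen_top {y : Ω} (hy : IsBase F E hE.1.2.2 p y) :
    FixAt F E hE.1.2.2 p (jGen 0 T) y := by
  obtain ⟨hyC, hT0, hY⟩ := hy
  have hinv := hE.1.2.2
  have hT := hinv.2.1
  have hTS := hT.1
  have := finite_of_le hTS
  set J := jGen 0 T
  have hJc : E.IsCentric J := isCentric_jGen_top hS hE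
  have := finite_of_le (hJc.1.trans hTS)
  have hJn : F.IsFullyNormalized J := by
    have := finite_of_le (normalizerIn_le (S := S) J)
    exact ⟨hJc.1.trans hTS, fun R _ => Subgroup.card_le_of_le fun s hs => ⟨hs.1,
      mem_normalizer_of_forall fun x hx =>
        conj_mem_jGen (mem_normalizer_of_stronglyClosed hT hs.1) hx⟩⟩
  have hN : normalizerIn T J = T := le_antisymm (normalizerIn_le J) fun t ht => ⟨ht,
    mem_normalizer_of_forall fun x hx => conj_mem_jGen (Subgroup.le_normalizer ht) hx⟩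
  refine fixAt_of_normalizer hS hE.1.1 hinv hJc
    (fullyNormalized_of_stronglyClosed hS hE.1.2.1 hT hinv.1 hJc.1 hJn)
    (receptive_sup_C hS hE.1.2.1 hinv hJc hJn)
    (not_dvd_relIndex_closAut hS hE.1.2.1 hE.1.1 hinv hJc hJn) hyC hY ?_
  rw [hN]
  exact hT0

include hS hE hp2 in
/-- The descent. -/
theorem fixAt_all : ∀ Q : Subgroup Ω, E.IsCentric Q → ∀ y : Ω, IsBase F E hE.1.2.2 p y →
    FixAt F E hE.1.2.2 p Q y := by
  have hEs := hE.1.1
  have hF := hE.1.2.1
  have hinv := hE.1.2.2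
  have hT := hinv.2.1
  have hTS := hT.1
  have := finite_of_le hTS
  have hTp := hS.to_le hTS
  set t := Nat.card T
  suffices H : ∀ a b : ℕ, ∀ Q : Subgroup Ω, E.IsCentric Q →
      t - Nat.card (normalizerIn T Q) = a → t - Nat.card Q = b →
      ∀ y : Ω, IsBase F E hinv p y → FixAt F E hinv p Q y from
    fun Q hQ => H _ _ Q hQ rfl rfl
  intro a
  induction a using Nat.strong_induction_on with
  | _ a iha =>
  intro b
  induction b using Nat.strong_induction_on with
  | _ b ihb =>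
  intro Q hQ hQa hQb
  have hQT := hQ.1
  have hcle : ∀ R : Subgroup Ω, R ≤ T → Nat.card R ≤ t := fun R hR => Subgroup.card_le_of_le hR
  have hNle : Nat.card (normalizerIn T Q) ≤ t := hcle _ (normalizerIn_le Q)
  -- what the two inductions give
  have hbigN : ∀ R : Subgroup Ω, E.IsCentric R →
      Nat.card (normalizerIn T Q) < Nat.card (normalizerIn T R) →
      ∀ y : Ω, IsBase F E hinv p y → FixAt F E hinv p R y := fun R hR h =>
    iha _ (by have := hcle _ (normalizerIn_le (S := T) R); omega) _ R hR rfl rfl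
  have hbigR : ∀ R : Subgroup Ω, E.IsCentric R →
      Nat.card (normalizerIn T Q) ≤ Nat.card (normalizerIn T R) → Nat.card Q < Nat.card R →
      ∀ y : Ω, IsBase F E hinv p y → FixAt F E hinv p R y := fun R hR h h' y hy => by
    rcases eq_or_lt_of_le h with heq | hlt
    · exact ihb _ (by have := hcle R hR.1; omega) R hR (by omega) rfl y hy
    · exact hbigN R hR hlt y hy
  -- the case of `F`-fully normalized subgroups
  have hmain : ∀ R : Subgroup Ω, E.IsCentric R → F.IsFullyNormalized R →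
      Nat.card R = Nat.card Q → Nat.card (normalizerIn T Q) ≤ Nat.card (normalizerIn T R) →
      ∀ y : Ω, IsBase F E hinv p y → FixAt F E hinv p R y := by
    intro R hR hRn hcard hNR y hy
    rcases eq_or_lt_of_le hR.1 with rfl | hlt
    · exact hy.2.1
    rcases lt_or_eq_of_le hNR with hN | hN
    · exact hbigN R hR hN y hy
    set P := normalizerIn T R with hPdef
    have hRP : R < P := lt_normalizerIn hTp hlt
    have hPT : P ≤ T := normalizerIn_le R
    have := finite_of_le (S := T) hPT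
    have hPc : E.IsCentric P := isCentric_of_le hRP.le hPT hR
    have hPN : P ≤ normalizerIn T P := le_normalizerIn hPT
    have := finite_of_le (S := T) (normalizerIn_le (S := T) P)
    have hRlt : Nat.card R < Nat.card P :=
      lt_of_not_ge fun h => hRP.ne (Subgroup.eq_of_le_of_card_ge hRP.le h)
    have hPfix : FixAt F E hinv p P y := hbigR P hPc (hN.le.trans (Subgroup.card_le_of_le hPN))
      (by omega) y hy
    have hRnE := fullyNormalized_of_stronglyClosed hS hF hT hinv.1 hR.1 hRn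
    refine fixAt_of_normalizer hS hEs hinv hR hRnE (receptive_sup_C hS hF hinv hR hRn)
      (not_dvd_relIndex_closAut hS hF hEs hinv hR hRn) hy.1 ?_ hPfix
    set J := jGen 0 P
    refine closAut_fix hS hF hEs hinv hp2 hR hRn hy.1 (fun h => ?_) (fun h => ?_)
    · have hlt₁ : R < R ⊔ J := lt_of_le_not_ge le_sup_left fun h' => h (le_sup_right.trans h')
      have h₁T : R ⊔ J ≤ T := sup_le hR.1 ((jGen_le 0 P).trans hPT)
      have := finite_of_le (S := T) h₁T
      have := finite_of_le (S := T) (normalizerIn_le (S := T) (R ⊔ J))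
      refine hbigR _ (isCentric_of_le le_sup_left h₁T hR) (hN.le.trans (Subgroup.card_le_of_le ?_)) ?_ y hy
      · intro u hu
        refine ⟨hu.1, mem_normalizer_of_forall ?_⟩
        intro x hx
        have hle : R ⊔ J ≤ (R ⊔ J).comap (MulAut.conj u).toMonoidHom := sup_le
          (fun z hz => le_sup_left (b := J) (conj_mem_of_mem_normalizer hu.2 hz))
          fun z hz => le_sup_right (a := R) (conj_mem_jGen (Subgroup.le_normalizer hu) hz)
        exact hle hx
      · have : Nat.card R < Nat.card ↥(R ⊔ J) :=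
          lt_of_not_ge fun h' => hlt₁.ne (Subgroup.eq_of_le_of_card_ge le_sup_left h')
        omega
    · have hJc : E.IsCentric J := isCentric_jGen hTp hEs hR hRnE h
      refine ⟨hJc, ?_⟩
      rcases eq_or_lt_of_le hPT with heq | hPlt
      · rw [show jGen 0 (normalizerIn T R) = jGen 0 T by rw [← hPdef, heq]]
        exact fixAt_jGen_top hS hE hy
      · refine hbigN J hJc ?_ y hy
        have hle : normalizerIn T P ≤ normalizerIn T J := fun u hu => ⟨hu.1, by
          have := finite_of_le (S := T) hJc.1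
          exact mem_normalizer_of_forall fun x hx => conj_mem_jGen hu.2 hx⟩
        have h1 : Nat.card P < Nat.card (normalizerIn T P) :=
          lt_of_not_ge fun h' => (lt_normalizerIn hTp hPlt).ne
            (Subgroup.eq_of_le_of_card_ge hPN h')
        have := finite_of_le (S := T) (normalizerIn_le (S := T) J)
        have h2 := Subgroup.card_le_of_le hle
        omega
  intro y hy
  rcases eq_or_lt_of_le hQT with rfl | hQlt
  · exact hy.2.1
  -- a fully normalized conjugate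
  obtain ⟨Q', hQQ', hQ'n⟩ := exists_fullyNormalized F (hQT.trans hTS)
  obtain ⟨φ, hφ, hφQ'⟩ := hQQ'
  obtain ⟨α, hα, φ₀, hφ₀, hφe⟩ := hinv.2.2.2 Q hQT φ hφ
  set Q₂ := φ₀.range with hQ₂
  have hQQ₂ : E.IsConj Q Q₂ := ⟨φ₀, hφ₀, rfl⟩
  have hQ₂T : Q₂ ≤ T := range_le_S E hφ₀
  have hQ₂c : E.IsCentric Q₂ := ⟨hQ₂T, fun R hR => hQ.2 R (isConj_trans hQQ₂ hR)⟩
  have hαQ : (Q₂.subgroupOf T).map (T.subtype.comp (α : MulAut T).toMonoidHom) = Q' := by
    rw [← hφQ']
    ext z
    constructor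
    · rintro ⟨w, ⟨x, hx⟩, rfl⟩
      refine ⟨x, ?_⟩
      rw [hφe x (apply_mem_S E hφ₀ x)]
      exact congrArg (fun v => ((α v : T) : Ω)) (Subtype.ext hx)
    · rintro ⟨x, rfl⟩
      exact ⟨⟨φ₀ x, apply_mem_S E hφ₀ x⟩, ⟨x, rfl⟩, (hφe x _).symm⟩
  have hαmem : ∀ (x : T), (x : Ω) ∈ Q₂ → ((α x : T) : Ω) ∈ Q' := fun x hx => hαQ.le ⟨x, hx, rfl⟩
  have hQ'T : Q' ≤ T := by
    rw [← hαQ]
    rintro _ ⟨x, -, rfl⟩
    exact (α x).2
  have hQ'c : E.IsCentric Q' :=
    ((isCentricRelTo_of_isCentric hinv hQ).of_isConj hT ⟨φ, hφ, hφQ'⟩).isCentric_sub hinv.1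
  -- `Q₂` is fully normalized in `E`
  have hcardQ' : ∀ R : Subgroup Ω, F.IsConj R Q' → R ≤ T →
      Nat.card (normalizerIn T R) ≤ Nat.card (normalizerIn T Q') := by
    intro R hR hRT
    obtain ⟨e, hle, -, ψ, hψ, -, hψN⟩ := exists_hom_normalizerIn_of_fullyNormalized hS hF hQ'n hR
    have := finite_of_le (S := T) (normalizerIn_le (S := T) Q')
    have hle' : normalizerIn T R ≤ normalizerIn S R := fun x hx => ⟨hTS hx.1, hx.2⟩
    refine Nat.card_le_card_of_injective (fun x : normalizerIn T R =>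
      (⟨ψ (Subgroup.inclusion hle' x),
        hT.2 _ (normalizerIn_le R) _ (res_mem F hψ hle') x,
        (hψN _).2⟩ : normalizerIn T Q')) ?_
    intro u v huv
    exact Subgroup.inclusion_injective hle' (F.injective_of_mem hψ (congrArg Subtype.val huv))
  have hQ'2 : Nat.card (normalizerIn T Q') ≤ Nat.card (normalizerIn T Q₂) := by
    have := finite_of_le (S := T) (normalizerIn_le (S := T) Q₂)
    refine Nat.card_le_card_of_injective (fun x : normalizerIn T Q' =>
      (⟨((α⁻¹ : MulAut T) ⟨x, x.2.1⟩ : T), ((α⁻¹ : MulAut T) ⟨x, x.2.1⟩).2, ?_⟩ :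
        normalizerIn T Q₂)) ?_
    · have := finite_of_le (S := T) hQ₂T
      refine mem_normalizer_of_forall fun q hq => ?_
      have h1 := hαmem ⟨q, hQ₂T hq⟩ hq
      have h2 := conj_mem_of_mem_normalizer x.2.2 h1
      obtain ⟨w, hw, hwe⟩ := hαQ.ge h2
      have h3 : (α⁻¹ : MulAut T) ⟨x, x.2.1⟩ * ⟨q, hQ₂T hq⟩ * ((α⁻¹ : MulAut T) ⟨x, x.2.1⟩)⁻¹ = w := by
        apply (α : MulAut T).injective
        rw [map_mul, map_mul, map_inv, MulAut.apply_inv_self]
        exact Subtype.ext hwe.symm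
      have h4 := congrArg (fun v : T => (v : Ω)) h3
      simp only [Subgroup.coe_mul, Subgroup.coe_inv] at h4
      rw [h4]
      exact hw
    · intro u v huv
      have h1 : (α⁻¹ : MulAut T) ⟨u, u.2.1⟩ = (α⁻¹ : MulAut T) ⟨v, v.2.1⟩ :=
        Subtype.ext (congrArg (fun w : normalizerIn T Q₂ => (w : Ω)) huv)
      exact Subtype.ext (congrArg (fun w : T => (w : Ω)) ((α⁻¹ : MulAut T).injective h1))
  have hQ₂n : E.IsFullyNormalized Q₂ := ⟨hQ₂T, fun R hR => (hcardQ' R (isConj_trans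
    (isConj_symm (isConj_of_isSubsystemOf hinv.1 (isConj_trans hQQ₂ hR))) ⟨φ, hφ, hφQ'⟩)
    (le_right_of_isConj hR)).trans hQ'2⟩
  have hNQ : Nat.card (normalizerIn T Q) ≤ Nat.card (normalizerIn T Q') :=
    hcardQ' Q ⟨φ, hφ, hφQ'⟩ hQT
  -- a map fixing `y` to `Q₂`
  set C := centralizerIn S T with hC
  obtain ⟨e, hle, -, ψ, hψ, hψe, -⟩ := exists_hom_normalizerIn_of_fullyNormalized hTp hEs hQ₂n hQQ₂
  obtain ⟨Ψ, hΨ, hΨe, hΨc, hΨy⟩ := hasFixExt_of_fixAt (m := Nat.card (normalizerIn T Q)) hS hE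
    hy.1 hy.2.1 (fun R hR h => hbigN R hR h y hy) hψ
    (isCentric_of_le (le_normalizerIn hQT) (normalizerIn_le Q) hQ) le_rfl
  have hQN : Q ⊔ C ≤ normalizerIn T Q ⊔ C := sup_le_sup_right hle C
  set Θ := Ψ.comp (Subgroup.inclusion hQN)
  have hΘ : Θ ∈ F.Hom (Q ⊔ C) := res_mem F hΨ hQN
  have hQS := sup_le_S hT hQT
  have := finite_of_le hQS
  obtain ⟨e₂, he₂, he₂e⟩ := exists_iso_of_range hΘ (Q := Q₂ ⊔ C) (by
    have hQ₂S := sup_le_S hT hQ₂T
    have := finite_of_le hQ₂S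
    have hrange : Θ.range ≤ Q₂ ⊔ C := by
      have h := apply_mem_sup_of_trivialExt hinv hQ (φ := Q₂.subtype.comp e.toMonoidHom)
        (mem_of_eq rfl (res_mem E hψ hle) fun x => (hψe x).symm) (ψ := Θ)
        (fun x => (hΨe (Subgroup.inclusion hle x)).trans (hψe x)) (fun c hc => hΨc c hc)
      rwa [range_subtype_comp] at h
    refine Subgroup.eq_of_le_of_card_ge hrange ?_
    rw [← Nat.card_congr (MonoidHom.ofInjective (F.injective_of_mem hΘ)).toEquiv]
    -- both joins have the same order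
    obtain ⟨Θ', hΘ', hΘ'e⟩ := F.inv_mem hΘ
    have hsub : Q₂ ⊔ C ≤ Θ.range := by
      have hR : Q₂ ≤ Θ.range := fun z hz => by
        obtain ⟨x, hx⟩ := e.surjective ⟨z, hz⟩
        refine ⟨Subgroup.inclusion le_sup_left x, ?_⟩
        refine ((hΨe (Subgroup.inclusion hle x)).trans (hψe x)).trans ?_
        exact congrArg Subtype.val hx
      refine sup_le hR fun c hc => ?_
      have hu : c⁻¹ * Θ ⟨c, le_sup_right (a := Q) hc⟩ ∈ Q₂ := mem_of_mem_sup hQ₂c
        (Subgroup.mul_mem _ (Subgroup.inv_mem _ (le_sup_right (a := Q₂) hc)) (hrange ⟨_, rfl⟩))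
        (hΨc c hc)
      have h6 := Θ.range.mul_mem (⟨_, rfl⟩ : Θ ⟨c, le_sup_right (a := Q) hc⟩ ∈ Θ.range)
        (Θ.range.inv_mem (hR hu))
      rwa [mul_inv_rev, inv_inv, mul_inv_cancel_left] at h6
    rw [Nat.card_congr (MonoidHom.ofInjective (F.injective_of_mem hΘ)).toEquiv]
    have := finite_of_le (range_le_S F hΘ)
    exact Subgroup.card_le_of_le hsub)
  refine fixAt_transport hinv hQ hQ₂c he₂ ⟨y, le_sup_right (a := Q) hy.1⟩ rfl ?_
  rw [show (e₂ ⟨y, le_sup_right (a := Q) hy.1⟩ : Ω) = y from (he₂e _).trans (hΨy _ rfl)]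
  -- the map to `Q'`
  obtain ⟨β, hβ, hβT⟩ := exists_aut_extension hS hF hT (a := (α : MulAut T)) hα
  have hTC := sup_le_S hT (le_refl T)
  have hle₂ : Q₂ ⊔ C ≤ T ⊔ C := sup_le_sup_right hQ₂T C
  have hQ'S := sup_le_S hT hQ'T
  have := finite_of_le hQ'S
  have hβQ : ∀ z : ↥(Q₂ ⊔ C), (β (Subgroup.inclusion hle₂ z) : Ω) ∈ Q' ⊔ C := by
    intro z
    obtain ⟨q, hq, c, hc, hqc⟩ := exists_mem_mul hQ₂T z.2
    rw [show Subgroup.inclusion hle₂ z = Subgroup.inclusion le_sup_left (⟨q, hQ₂T hq⟩ : T) *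
      ⟨c, le_sup_right (a := T) hc⟩ from Subtype.ext hqc.symm, map_mul, Subgroup.coe_mul, hβT]
    exact Subgroup.mul_mem _ (le_sup_left (b := C) (hαmem _ hq))
      (le_sup_right (a := Q') (apply_mem_centralizerIn_of_ext (a := (α : MulAut T)) hTS hβT
        (c := ⟨c, le_sup_right (a := T) hc⟩) hc))
  obtain ⟨e₃, he₃, he₃e⟩ := exists_iso_of_range (res_mem F ((mem_autGroup_iff F hTC).1 hβ) hle₂)
    (Q := Q' ⊔ C) (by
    refine le_antisymm (by rintro _ ⟨z, rfl⟩; exact hβQ z) (sup_le (fun z hz => ?_) fun c hc => ?_)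
    · obtain ⟨w, hw, rfl⟩ := hαQ.ge hz
      exact ⟨⟨w, le_sup_left (b := C) hw⟩, hβT w⟩
    · obtain ⟨w, hw⟩ := β.surjective ⟨c, le_sup_right (a := T) hc⟩
      have hwC : (w : Ω) ∈ C := by
        refine ⟨hTC w.2, fun r hr => ?_⟩
        have h1 : Subgroup.inclusion le_sup_left (⟨r, hr⟩ : T) * w =
            w * Subgroup.inclusion le_sup_left (⟨r, hr⟩ : T) := β.injective (by
          rw [map_mul, map_mul, hw]
          refine Subtype.ext ?_
          change (β (Subgroup.inclusion le_sup_left (⟨r, hr⟩ : T)) : Ω) * c =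
            c * (β (Subgroup.inclusion le_sup_left (⟨r, hr⟩ : T)) : Ω)
          rw [hβT]
          exact hc.2 _ ((α : MulAut T) ⟨r, hr⟩).2)
        exact congrArg Subtype.val h1
      exact ⟨⟨w, le_sup_right (a := Q₂) hwC⟩, congrArg Subtype.val hw⟩)
  refine fixAt_transport hinv hQ₂c hQ'c he₃ ⟨y, le_sup_right (a := Q₂) hy.1⟩ rfl ?_
  have hy' : IsBase F E hinv p (β ⟨y, le_sup_right (a := T) hy.1⟩ : Ω) :=
    isBase_apply hinv (isCentric_jGen_top hS hE) hβ (y := ⟨y, le_sup_right (a := T) hy.1⟩) hy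
  rw [show (e₃ ⟨y, le_sup_right (a := Q₂) hy.1⟩ : Ω) =
    (β ⟨y, le_sup_right (a := T) hy.1⟩ : Ω) from he₃e _]
  refine hmain Q' hQ'c hQ'n ?_ hNQ _ hy'
  rw [← hφQ', Nat.card_congr (MonoidHom.ofInjective (F.injective_of_mem hφ)).toEquiv]

omit [Fact p.Prime] in
theorem mem_of_mul_inv_mem {A : Subgroup Ω} {x w : Ω} (h : x * w ∈ A) (hw : w ∈ A) : x ∈ A := by
  simpa using A.mul_mem h (A.inv_mem hw)

include hS hE hp2 in
/-- For odd `p` the centralizer of the group lies in it. -/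
theorem centralizerIn_le_of_odd
    (hCE : ∀ Y : Subgroup Ω, Y ≤ centralizerIn S T →
      (∀ P : Subgroup Ω, E.Hom P ⊆ F.centralizerHom Y P) → Y ≤ T) :
    centralizerIn S T ≤ T := by
  intro y hy
  obtain ⟨k, w, hk, hwT, hw⟩ := exists_isBase hS hE.1.2.1 hE.1.1 hE.1.2.2
    (isCentric_jGen_top hS hE) hy
  have hwmem : w ∈ T := by
    refine hCE _ (Subgroup.zpowers_le.2 hw.1)
      (hom_subset_centralizerHom_of_fixed hS hE hw.1 fun R hR φ hφ _ => ?_) (Subgroup.mem_zpowers w)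
    obtain ⟨ψ, hψ, hψe, -, hψw⟩ := hasFixExt_of_fixAt (m := 0) hS hE hw.1 hw.2.1
      (fun Q hQ _ => fixAt_all hS hE hp2 Q hQ w hw) hφ hR (Nat.zero_le _)
    have hle : R ⊔ Subgroup.zpowers w ≤ R ⊔ centralizerIn S T :=
      sup_le_sup_left (Subgroup.zpowers_le.2 hw.1) R
    exact ⟨_, res_mem F hψ hle, fun x => hψe x, hψw _ rfl⟩
  have hyk : y⁻¹ ^ k ∈ T := mem_of_mul_inv_mem hwT hwmem
  obtain ⟨j, hj⟩ := hS ⟨y, hy.1⟩
  have hj' : y⁻¹ ^ p ^ j = 1 := by
    rw [inv_pow, inv_eq_one]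
    exact congrArg Subtype.val hj
  obtain ⟨m, hm⟩ := exists_pow_eq_self_of_coprime (x := y⁻¹) (n := k)
    ((((Fact.out : p.Prime).coprime_iff_not_dvd.2 hk).symm.pow_right j).coprime_dvd_right
      (orderOf_dvd_of_pow_eq_one hj'))
  rw [← inv_mem_iff, ← hm]
  exact T.pow_mem hyk m

include hS hE in
/-- The commutator subgroup of `T C_S(T)` lies in `T`. -/
theorem commutator_sup_le
    (hCE : ∀ Y : Subgroup Ω, Y ≤ centralizerIn S T →
      (∀ P : Subgroup Ω, E.Hom P ⊆ F.centralizerHom Y P) → Y ≤ T) :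
    ⁅T ⊔ centralizerIn S T, T ⊔ centralizerIn S T⁆ ≤ T := by
  have hinv := hE.1.2.2
  have hT := hinv.2.1
  have hTS := hT.1
  set C := centralizerIn S T
  have hCC : ∀ c ∈ C, ∀ d ∈ C, c * d * c⁻¹ * d⁻¹ ∈ T := by
    intro c hc d hd
    set y := c * d * c⁻¹ * d⁻¹ with hy
    have hyC : y ∈ C := C.mul_mem (C.mul_mem (C.mul_mem hc hd) (C.inv_mem hc)) (C.inv_mem hd)
    refine hCE _ (Subgroup.zpowers_le.2 hyC)
      (hom_subset_centralizerHom_of_fixed hS hE hyC fun R hR φ hφ hext => ?_) (Subgroup.mem_zpowers y)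
    obtain ⟨ψ, hψ, hψe, hψc⟩ := hext
    have hle : R ⊔ Subgroup.zpowers y ≤ R ⊔ C := sup_le_sup_left (Subgroup.zpowers_le.2 hyC) R
    refine ⟨_, res_mem F hψ hle, fun x => hψe x, ?_⟩
    set cM : ↥(R ⊔ C) := ⟨c, le_sup_right (a := R) hc⟩
    set dM : ↥(R ⊔ C) := ⟨d, le_sup_right (a := R) hd⟩
    set z := c⁻¹ * ψ cM with hz
    set z' := d⁻¹ * ψ dM with hz'
    have hzT : z ∈ T := hψc c hc
    have hz'T : z' ∈ T := hψc d hd
    have hψimg := apply_mem_sup_of_trivialExt hinv hR hφ hψe hψc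
    -- `z` centralizes the image and lies in it
    have hrc : E.IsCentric φ.range :=
      ⟨range_le_S E hφ, fun R' hR' => hR.2 R' (isConj_trans ⟨φ, hφ, rfl⟩ hR')⟩
    have hzc : ∀ (e : Ω) (he : e ∈ C), e⁻¹ * ψ ⟨e, le_sup_right (a := R) he⟩ ∈ φ.range ∧
        ∀ r ∈ φ.range, r * (e⁻¹ * ψ ⟨e, le_sup_right (a := R) he⟩) =
          (e⁻¹ * ψ ⟨e, le_sup_right (a := R) he⟩) * r := by
      intro e he
      refine ⟨mem_of_mem_sup hrc (Subgroup.mul_mem _ (Subgroup.inv_mem _ (le_sup_right (a := φ.range) he))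
        (hψimg ⟨_, rfl⟩)) (hψc e he), ?_⟩
      rintro _ ⟨x, rfl⟩
      have h1 : Commute (φ x) e := he.2 _ (apply_mem_S E hφ x)
      have h2 : Commute (φ x) (ψ ⟨e, le_sup_right (a := R) he⟩) := by
        have h3 := congrArg ψ (show Subgroup.inclusion le_sup_left x * ⟨e, le_sup_right (a := R) he⟩ =
          ⟨e, le_sup_right (a := R) he⟩ * Subgroup.inclusion le_sup_left x from
            Subtype.ext (he.2 x (hR.1 x.2)))
        rw [map_mul, map_mul, hψe] at h3
        exact h3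
      exact (h1.inv_right.mul_right h2).eq
    have hzz : Commute z z' := ((hzc d hd).2 z (hzc c hc).1)
    have hzd : Commute z d := hd.2 z hzT
    have hz'c : Commute z' c := hc.2 z' hz'T
    change ψ ⟨y, _⟩ = y
    rw [show (⟨y, _⟩ : ↥(R ⊔ C)) = cM * dM * cM⁻¹ * dM⁻¹ from Subtype.ext hy, map_mul, map_mul,
      map_mul, map_inv, map_inv, show ψ cM = c * z by simp [hz], show ψ dM = d * z' by simp [hz']]
    have h1 : Commute (c * z) z' := hz'c.symm.mul_left hzz
    calc c * z * (d * z') * (c * z)⁻¹ * (d * z')⁻¹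
        = c * (z * d) * (z' * (c * z)⁻¹) * z'⁻¹ * d⁻¹ := by group
      _ = c * (d * z) * ((c * z)⁻¹ * z') * z'⁻¹ * d⁻¹ := by rw [hzd.eq, h1.inv_left.eq.symm]
      _ = y := by rw [hy]; group
  have hTn : T ⊔ C ≤ Subgroup.normalizer (T : Set Ω) := sup_le Subgroup.le_normalizer fun c hc =>
    mem_normalizer_of_forall_commute hc.2
  refine Subgroup.commutator_le.2 fun a ha b hb => ?_
  obtain ⟨t, ht, c, hc, rfl⟩ := exists_mem_mul (S := S) (le_refl T) ha
  obtain ⟨u, hu, d, hd, rfl⟩ := exists_mem_mul (S := S) (le_refl T) hb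
  have h1 : Commute c u := (hc.2 u hu).symm
  have h2 : Commute d t := (hd.2 t ht).symm
  have h3 : t * u * (c * d * c⁻¹ * d⁻¹) * t⁻¹ * u⁻¹ ∈ T :=
    T.mul_mem (T.mul_mem (T.mul_mem (T.mul_mem ht hu) (hCC c hc d hd)) (T.inv_mem ht)) (T.inv_mem hu)
  rw [commutatorElement_def]
  convert h3 using 1
  calc t * c * (u * d) * (t * c)⁻¹ * (u * d)⁻¹
      = t * (c * u) * d * c⁻¹ * (t⁻¹ * d⁻¹) * u⁻¹ := by group
    _ = t * (u * c) * d * c⁻¹ * (d⁻¹ * t⁻¹) * u⁻¹ := by rw [h1.eq, h2.inv_inv.eq.symm]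
    _ = _ := by group

end CfsgLib.Fusion.SmallCent
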