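import Cfsg.Agent.Lib.Fusion.SmallCentralizer.Climb
import Cfsg.Agent.Lib.Fusion.FunctorModel
import Cfsg.Agent.Lib.Fusion.ModelUnique
import Cfsg.Agent.Lib.Fusion.NormSys
import Cfsg.Agent.Lib.Fusion.NormalizerSat
import Cfsg.Agent.Lib.Fusion.GroupSystem
import Cfsg.Agent.Lib.Transfer.CentralElement

/-!
The group carrying the normal closure of `Aut_T(Q C_S(T))` and Glauberman's theorem inside it.
-/

set_option autoImplicit false

open Cfsg Cfsg.FusionSystem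

namespace CfsgLib.Fusion.SmallCent

open CfsgLib.PStab (jGen jGen_le le_jGen jGen_map)

universe u

variable {Ω : Type u} [Group Ω] {S T : Subgroup Ω} [Finite S] {F : FusionSystem S}
  {E : FusionSystem T} {p : ℕ} [Fact p.Prime]

omit [Fact p.Prime] in
theorem isFullyNormalized_of_inf (hT : F.StronglyClosed T) {Q M : Subgroup Ω}
    (hQn : F.IsFullyNormalized Q) (hMS : M ≤ S) (hMT : M ⊓ T = Q)
    (hN : normalizerIn S Q ≤ Subgroup.normalizer (M : Set Ω)) : F.IsFullyNormalized M := by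
  refine ⟨hMS, fun R hR => ?_⟩
  obtain ⟨φ, hφ, rfl⟩ := hR
  have := finite_of_le (normalizerIn_le (S := S) M)
  have hconj : F.IsConj Q (φ.range ⊓ T) := by
    rw [← img_inf_stronglyClosed hT hφ]
    subst hMT
    exact ⟨_, res_mem F hφ inf_le_left, rfl⟩
  refine le_trans ?_ ((hQn.2 _ hconj).trans (Subgroup.card_le_of_le (fun s hs => ⟨hs.1, hN hs⟩)))
  have := finite_of_le (normalizerIn_le (S := S) (φ.range ⊓ T))
  refine Subgroup.card_le_of_le fun s hs => ⟨hs.1, ?_⟩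
  have := finite_of_le (S := S) ((inf_le_right : φ.range ⊓ T ≤ T).trans hT.1)
  exact mem_normalizer_of_forall fun x hx =>
    ⟨conj_mem_of_mem_normalizer hs.2 hx.1,
      conj_mem_of_mem_normalizer (mem_normalizer_of_stronglyClosed hT hs.1) hx.2⟩

omit [Fact p.Prime] in
theorem receptive_sup_C (hS : IsPGroup p S) [Fact p.Prime] (hF : F.IsSaturated p)
    (hinv : E.IsInvariantIn F) {Q : Subgroup Ω} (hQ : E.IsCentric Q)
    (hQn : F.IsFullyNormalized Q) : F.IsReceptive (Q ⊔ centralizerIn S T) := by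
  refine (fullyAutomized_receptive_of_fullyNormalized hS hF (isFullyNormalized_of_inf hinv.2.1 hQn
    (sup_le_S hinv.2.1 hQ.1) (le_antisymm (fun x hx => mem_of_mem_sup hQ hx.1 hx.2)
      (le_inf le_sup_left hQ.1)) fun s hs => ?_)).2
  exact mem_normalizer_sup_C hinv.2.1 hs.1 hs.2 hQ.1

omit [Fact p.Prime] in
theorem exists_model_normalizer [Fact p.Prime] (hS : IsPGroup p S) (hF : F.IsSaturated p)
    {R N : Subgroup Ω} (hN : N = normalizerIn S R) (hR : F.IsFullyNormalized R)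
    (hc : ∀ R', F.IsConj R R' → centralizerIn S R' ≤ R') :
    ∃ (G : Type u) (_ : Group G) (ι : N →* G) (hι : (normSys F R hN hR.1).IsModel p G ι),
      (normSys F R hN hR.1).IsNormal R ∧ (normSys F R hN hR.1).IsCentric R := by
  subst hN
  have hRN : R ≤ normalizerIn S R := le_normalizerIn hR.1
  have hEn : (normSys F R rfl hR.1).IsNormal R :=
    isNormal_normalizerSystem hR.1 (fun _ => rfl)
  have hEc : (normSys F R rfl hR.1).IsCentric R := ⟨hRN, fun R' hR' => by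
    obtain ⟨φ, hφ, rfl⟩ := hR'
    exact fun x hx => hc _ ⟨φ, hφ.1, rfl⟩ ⟨hx.1.1, hx.2⟩⟩
  have := finite_of_le (normalizerIn_le (S := S) R)
  obtain ⟨G, _, ι, h⟩ := exists_model_of_normal_centric (hS.to_le (normalizerIn_le R))
    (isSaturated_normalizerSystem hS hF hR _ (fun _ => rfl)) hEn hEc
  exact ⟨G, _, ι, h, hEn, hEc⟩

/-- The local group at a centric fully normalized `Q`. -/
theorem exists_local_group (hS : IsPGroup p S) (hF : F.IsSaturated p) (hEs : E.IsSaturated p)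
    (hinv : E.IsInvariantIn F) {Q : Subgroup Ω} (hQ : E.IsCentric Q) (hQn : F.IsFullyNormalized Q) :
    ∃ (G : Type u) (_ : Group G) (_ : Finite G) (ι : normalizerIn S Q →* G) (L : Subgroup G),
      Function.Injective ι ∧
      ((normalizerIn T Q).subgroupOf (normalizerIn S Q)).map ι ≤ L ∧
      (¬ p ∣ (((normalizerIn T Q).subgroupOf (normalizerIn S Q)).map ι).relIndex L) ∧
      (∀ s : normalizerIn S Q, ι s ∈ L → (s : Ω) ∈ T) ∧
      (∀ l ∈ L, (∀ q : normalizerIn S Q, (q : Ω) ∈ Q → l * ι q = ι q * l) →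
        l ∈ (Q.subgroupOf (normalizerIn S Q)).map ι) ∧
      (∀ l ∈ L, ∃ ψ ∈ closAut T F (Q ⊔ centralizerIn S T), ∀ x x' : normalizerIn S Q,
        ∀ hx : (x : Ω) ∈ Q ⊔ centralizerIn S T,
          (x' : Ω) = ψ ⟨x, hx⟩ → ι x' = l * ι x * l⁻¹) ∧
      (∀ ψ ∈ closAut T F (Q ⊔ centralizerIn S T), ∃ l ∈ L, ∀ x x' : normalizerIn S Q,
        ∀ hx : (x : Ω) ∈ Q ⊔ centralizerIn S T,
          (x' : Ω) = ψ ⟨x, hx⟩ → ι x' = l * ι x * l⁻¹) ∧
      ∀ l ∈ L, ∀ (M : Subgroup Ω) (hM : M ≤ normalizerIn S Q),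
        (∀ x : M, l * ι (Subgroup.inclusion hM x) * l⁻¹ ∈ ι.range) →
        ∃ φ ∈ F.Hom M, ∃ hφ : ∀ x, φ x ∈ normalizerIn S Q,
          ∀ x : M, ι ⟨φ x, hφ x⟩ = l * ι (Subgroup.inclusion hM x) * l⁻¹ := by
  have hT := hinv.2.1
  have hTS := hT.1
  have := finite_of_le hTS
  have hTp := hS.to_le hTS
  set C := centralizerIn S T with hCdef
  set M := Q ⊔ C with hMdef
  set D := centralizerIn S M with hDdef
  set R := M ⊔ D with hRdef
  set N := normalizerIn S Q with hNdef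
  set P := normalizerIn T Q with hPdef
  have hMS : M ≤ S := sup_le_S hT hQ.1
  have := finite_of_le hMS
  have hQS : Q ≤ S := hQ.1.trans hTS
  have := finite_of_le hQS
  have hNS : N ≤ S := normalizerIn_le Q
  have := finite_of_le hNS
  have hMrec : F.IsReceptive M := receptive_sup_C hS hF hinv hQ hQn
  have hPT : P ≤ T := normalizerIn_le Q
  have hPN : P ≤ N := fun x hx => ⟨hTS hx.1, hx.2⟩
  have hQM : Q ≤ M := le_sup_left
  have hRS : R ≤ S := sup_le hMS (centralizerIn_le M)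
  have := finite_of_le hRS
  have hRN : R ≤ N := sup_le (sup_le (le_normalizerIn hQS) fun c hc =>
      ⟨hc.1, mem_normalizer_of_forall_commute fun q hq => hc.2 q (hQ.1 hq)⟩)
    fun c hc => ⟨hc.1, mem_normalizer_of_forall_commute fun q hq => hc.2 q (hQM hq)⟩
  have hRT : R ⊓ T = Q := by
    refine le_antisymm (fun x hx => ?_) (le_inf (hQM.trans le_sup_left) hQ.1)
    obtain ⟨hxR, hxT⟩ := hx
    have hn : D ≤ Subgroup.normalizer (M : Set Ω) := fun d hd =>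
      mem_normalizer_of_forall_commute hd.2
    have hx' : x ∈ ((M ⊔ D : Subgroup Ω) : Set Ω) := hxR
    rw [Subgroup.coe_mul_of_right_le_normalizer_left _ _ hn] at hx'
    obtain ⟨m, hm, d, hd, rfl⟩ := Set.mem_mul.1 hx'
    obtain ⟨q, hq, c, hc, rfl⟩ := exists_mem_mul hQ.1 hm
    have hcd : c * d ∈ T := by
      have := T.mul_mem (T.inv_mem (hQ.1 hq)) hxT
      rwa [← mul_assoc, ← mul_assoc, inv_mul_cancel, one_mul] at this
    rw [mul_assoc]
    refine Q.mul_mem hq (hQ.2 Q (isConj_refl hQ.1) ⟨hcd, fun r hr => ?_⟩)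
    have h1 : Commute r c := hc.2 r (hQ.1 hr)
    have h2 : Commute r d := hd.2 r (hQM hr)
    exact (h1.mul_right h2).eq
  have hNR : ∀ s ∈ N, s ∈ Subgroup.normalizer (R : Set Ω) := by
    intro s hs
    have hsM := mem_normalizer_sup_C hT hs.1 hs.2 hQ.1
    refine mem_normalizer_of_forall fun x hx => ?_
    have hn : D ≤ Subgroup.normalizer (M : Set Ω) := fun d hd =>
      mem_normalizer_of_forall_commute hd.2
    have hx' : x ∈ ((M ⊔ D : Subgroup Ω) : Set Ω) := hx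
    rw [Subgroup.coe_mul_of_right_le_normalizer_left _ _ hn] at hx'
    obtain ⟨m, hm, d, hd, rfl⟩ := Set.mem_mul.1 hx'
    rw [show s * (m * d) * s⁻¹ = s * m * s⁻¹ * (s * d * s⁻¹) by group]
    refine Subgroup.mul_mem_sup (conj_mem_of_mem_normalizer hsM hm)
      ⟨S.mul_mem (S.mul_mem hs.1 hd.1) (S.inv_mem hs.1), fun r hr => ?_⟩
    have h1 := hd.2 _ ((Subgroup.mem_normalizer_iff''.1 hsM r).1 hr)
    change r * (s * d * s⁻¹) = s * d * s⁻¹ * r
    calc r * (s * d * s⁻¹) = s * ((s⁻¹ * r * s) * d) * s⁻¹ := by group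
      _ = _ := by rw [h1]; group
  have hNeq : N = normalizerIn S R := by
    refine le_antisymm (fun s hs => ⟨hs.1, hNR s hs⟩) fun s hs => ⟨hs.1, ?_⟩
    refine mem_normalizer_of_forall fun x hx => ?_
    rw [← hRT] at hx ⊢
    exact ⟨conj_mem_of_mem_normalizer hs.2 hx.1,
      conj_mem_of_mem_normalizer (mem_normalizer_of_stronglyClosed hT hs.1) hx.2⟩
  have hRn : F.IsFullyNormalized R :=
    isFullyNormalized_of_inf hT hQn hRS hRT (fun s hs => hNR s hs)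
  have hRc : ∀ R', F.IsConj R R' → centralizerIn S R' ≤ R' := by
    intro R' hR' c hc
    obtain ⟨φ, hφ, rfl⟩ := hR'
    set φM := φ.comp (Subgroup.inclusion (le_sup_left : M ≤ R))
    have hφM : φM ∈ F.Hom M := res_mem F hφ le_sup_left
    have := finite_of_le (centralizerIn_le (S := S) φM.range)
    let f : D → centralizerIn S φM.range := fun d => ⟨φ ⟨d, le_sup_right (a := M) d.2⟩,
      apply_mem_S F hφ _, by
        rintro _ ⟨m, rfl⟩
        have h1 : Subgroup.inclusion (le_sup_left : M ≤ R) m * ⟨d, le_sup_right (a := M) d.2⟩ =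
            ⟨d, le_sup_right (a := M) d.2⟩ * Subgroup.inclusion (le_sup_left : M ≤ R) m :=
          Subtype.ext (d.2.2 m m.2)
        have h2 := congrArg φ h1
        rw [map_mul, map_mul] at h2
        exact h2⟩
    have hfi : Function.Injective f := fun a b h =>
      Subtype.ext (congrArg Subtype.val (F.injective_of_mem hφ (congrArg Subtype.val h) :) :)
    have := finite_of_le (centralizerIn_le (S := S) M)
    obtain ⟨d, hd⟩ := (hfi.bijective_of_nat_card_le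
      ((isFullyCentralized_of_isReceptive hMrec).2 _ ⟨φM, hφM, rfl⟩)).2
      ⟨c, hc.1, fun r hr => hc.2 r (by obtain ⟨m, rfl⟩ := hr; exact ⟨_, rfl⟩)⟩
    exact ⟨_, congrArg Subtype.val hd⟩
  obtain ⟨G, _, ι, hmodel, hEn, hEc⟩ := exists_model_normalizer hS hF hNeq hRn hRc
  have hRnorm := map_normal_of_isModel hmodel hEn
  have hNp : IsPGroup p N := hS.to_le hNS
  have hcentR := centralizer_img_le_of_isModel hNp hmodel hEn hEc
  obtain ⟨hG, ⟨hι, hreal⟩, ⟨S₀, hS₀⟩, -⟩ := hmodel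
  -- conjugation gives maps of `F`
  have hmaps : ∀ (g : G) (U : Subgroup Ω) (hU : U ≤ N),
      (∀ x : U, g * ι (Subgroup.inclusion hU x) * g⁻¹ ∈ ι.range) →
      ∃ φ ∈ F.Hom U, ∃ hφ : ∀ x, φ x ∈ N,
        ∀ x : U, ι ⟨φ x, hφ x⟩ = g * ι (Subgroup.inclusion hU x) * g⁻¹ := fun g U hU hg => by
    obtain ⟨φ, hφ, hφN, he⟩ := exists_map_of_conj (F := normSys F R hNeq hRn.1) ⟨hι, hreal⟩ hU hg
    exact ⟨φ, hφ.1, hφN, he⟩
  -- strong closure in `G`
  have hclosed : ∀ (g : G) (a b : N), (a : Ω) ∈ T → ι b = g * ι a * g⁻¹ → (b : Ω) ∈ T := by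
    intro g a b ha hb
    have hU : Subgroup.zpowers (a : Ω) ≤ N := Subgroup.zpowers_le.2 a.2
    obtain ⟨φ, hφ, hφN, he⟩ := hmaps g _ hU (by
      rintro ⟨x, hx⟩
      obtain ⟨k, rfl⟩ := Subgroup.mem_zpowers_iff.1 hx
      refine ⟨b ^ k, ?_⟩
      rw [map_zpow, hb, conj_zpow, ← map_zpow]
      rfl)
    have h1 := he ⟨a, Subgroup.mem_zpowers _⟩
    rw [show Subgroup.inclusion hU ⟨(a : Ω), Subgroup.mem_zpowers _⟩ = a from rfl, ← hb] at h1
    rw [← hι h1]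
    exact hT.2 _ (Subgroup.zpowers_le.2 ha) φ hφ _
  set Pι := (P.subgroupOf N).map ι with hPι
  set Qι := (Q.subgroupOf N).map ι with hQι
  set Rι := (R.subgroupOf N).map ι with hRι
  set Mι := (M.subgroupOf N).map ι with hMι
  have hMN : M ≤ N := le_sup_left.trans hRN
  have hQN : Q ≤ N := le_normalizerIn hQS
  -- `Q` is normal in `G`
  have hQnorm : ∀ (g : G) (x : G), x ∈ Qι → g * x * g⁻¹ ∈ Qι := by
    rintro g _ ⟨q, hq, rfl⟩
    have h1 : g * ι q * g⁻¹ ∈ Rι :=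
      hRnorm.conj_mem _ ⟨q, (hQM.trans le_sup_left : Q ≤ R) hq, rfl⟩ g
    obtain ⟨b, hb, hbe⟩ := h1
    exact ⟨b, hRT.le ⟨hb, hclosed g q b (hQ.1 hq) hbe⟩, hbe⟩
  set G₀ := Subgroup.normalizer (Mι : Set G) with hG₀
  have hNG₀ : ι.range ≤ G₀ := by
    rintro _ ⟨s, rfl⟩
    refine mem_normalizer_of_forall ?_
    rintro _ ⟨x, hx, rfl⟩
    refine ⟨s * x * s⁻¹, ?_, by rw [map_mul, map_mul, map_inv]⟩
    exact Subgroup.mem_subgroupOf.2
      (conj_mem_of_mem_normalizer (mem_normalizer_sup_C hT s.2.1 s.2.2 hQ.1)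
        (Subgroup.mem_subgroupOf.1 hx))
  have hPrange : Pι ≤ ι.range := Subgroup.map_le_range _ _
  set L₀ := Subgroup.normalClosure ((Pι.subgroupOf G₀ : Subgroup G₀) : Set G₀) with hL₀
  set L := L₀.map G₀.subtype with hLdef
  have hPL : Pι ≤ L := fun x hx => ⟨⟨x, hNG₀ (hPrange hx)⟩,
    Subgroup.le_normalClosure (Subgroup.mem_subgroupOf.2 hx), rfl⟩
  have hLG₀ : L ≤ G₀ := Subgroup.map_subtype_le L₀
  have hLgen : ∀ A : Subgroup G, (∀ g ∈ G₀, ∀ x ∈ Pι, g * x * g⁻¹ ∈ A) → L ≤ A := by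
    intro A hA
    rintro _ ⟨x, hx, rfl⟩
    refine (Subgroup.closure_le (A.subgroupOf G₀)).2 ?_ hx
    intro y hy
    obtain ⟨b, hb, hby⟩ := Group.mem_conjugatesOfSet_iff.1 hy
    obtain ⟨g, rfl⟩ := _root_.isConj_iff.1 hby
    exact hA g g.2 b hb
  have hLn : ∀ g ∈ G₀, ∀ x ∈ L, g * x * g⁻¹ ∈ L := by
    rintro g hg _ ⟨x, hx, rfl⟩
    exact ⟨⟨g, hg⟩ * x * ⟨g, hg⟩⁻¹,
      (Subgroup.normalClosure_normal (s := ((Pι.subgroupOf G₀ : Subgroup G₀) : Set G₀))).conj_mem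
        x hx ⟨g, hg⟩, rfl⟩
  -- the action on `M`
  have hr : ∀ g ∈ G₀, ∃ β ∈ F.autGroup M, ∀ (x x' : N) (hx : (x : Ω) ∈ M),
      (x' : Ω) = β ⟨x, hx⟩ → ι x' = g * ι x * g⁻¹ := by
    intro g hg
    have hconj : ∀ x : M, g * ι (Subgroup.inclusion hMN x) * g⁻¹ ∈ Mι := fun x =>
      conj_mem_of_mem_normalizer hg ⟨_, x.2, rfl⟩
    obtain ⟨φ, hφ, hφN, he⟩ := hmaps g M hMN fun x => Subgroup.map_le_range _ _ (hconj x)
    obtain ⟨β, hβ, hβe⟩ := exists_iso_of_range hφ (Q := M) (Subgroup.eq_of_le_of_card_ge (by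
      rintro _ ⟨x, rfl⟩
      obtain ⟨b, hb, hbe⟩ := hconj x
      have h2 := hι (hbe.trans (he x).symm)
      rw [h2] at hb
      exact hb) (Nat.card_congr (MonoidHom.ofInjective (F.injective_of_mem hφ)).toEquiv).le)
    refine ⟨β, (mem_autGroup_iff F hMS).2 hβ, fun x x' hx hx' => ?_⟩
    rw [show x' = ⟨φ ⟨x, hx⟩, hφN _⟩ from Subtype.ext (hx'.trans (hβe _)), he]
    rfl
  -- unique
  have huniq : ∀ {g : G} {β γ : MulAut M},
      (∀ (x x' : N) (hx : (x : Ω) ∈ M), (x' : Ω) = β ⟨x, hx⟩ → ι x' = g * ι x * g⁻¹) →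
      (∀ (x x' : N) (hx : (x : Ω) ∈ M), (x' : Ω) = γ ⟨x, hx⟩ → ι x' = g * ι x * g⁻¹) → β = γ := by
    intro g β γ hβ hγ
    refine MulEquiv.ext fun x => ?_
    have h1 := hβ ⟨x, hMN x.2⟩ ⟨β x, hMN (β x).2⟩ x.2 rfl
    rw [← hγ ⟨x, hMN x.2⟩ ⟨γ x, hMN (γ x).2⟩ x.2 rfl] at h1
    exact Subtype.ext (congrArg Subtype.val (hι h1) :)
  -- composition
  have hcomp : ∀ {g h : G} {β γ : MulAut M},
      (∀ (x x' : N) (hx : (x : Ω) ∈ M), (x' : Ω) = β ⟨x, hx⟩ → ι x' = g * ι x * g⁻¹) →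
      (∀ (x x' : N) (hx : (x : Ω) ∈ M), (x' : Ω) = γ ⟨x, hx⟩ → ι x' = h * ι x * h⁻¹) →
      ∀ (x x' : N) (hx : (x : Ω) ∈ M), (x' : Ω) = (β * γ) ⟨x, hx⟩ →
        ι x' = g * h * ι x * (g * h)⁻¹ := by
    intro g h β γ hβ hγ x x' hx hx'
    rw [hβ ⟨γ ⟨x, hx⟩, hMN (γ _).2⟩ x' (γ ⟨x, hx⟩).2 hx', hγ x _ hx rfl]
    group
  have hinvc : ∀ {g : G} {β : MulAut M},
      (∀ (x x' : N) (hx : (x : Ω) ∈ M), (x' : Ω) = β ⟨x, hx⟩ → ι x' = g * ι x * g⁻¹) →
      ∀ (x x' : N) (hx : (x : Ω) ∈ M), (x' : Ω) = β⁻¹ ⟨x, hx⟩ →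
        ι x' = g⁻¹ * ι x * (g⁻¹)⁻¹ := by
    intro g β hβ x x' hx hx'
    have hx'M : (x' : Ω) ∈ M := hx' ▸ (β⁻¹ ⟨x, hx⟩).2
    rw [hβ x' x hx'M (by
      rw [show (⟨(x' : Ω), hx'M⟩ : M) = β⁻¹ ⟨x, hx⟩ from Subtype.ext hx', MulAut.apply_inv_self])]
    group
  -- the elements inducing the closure
  have hspec : ∀ l ∈ L, ∃ ψ ∈ closAut T F M, ∀ (x x' : N) (hx : (x : Ω) ∈ M),
      (x' : Ω) = ψ ⟨x, hx⟩ → ι x' = l * ι x * l⁻¹ := by
    let A : Subgroup G :=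
      { carrier := {l | ∃ ψ ∈ closAut T F M, ∀ (x x' : N) (hx : (x : Ω) ∈ M),
          (x' : Ω) = ψ ⟨x, hx⟩ → ι x' = l * ι x * l⁻¹}
        one_mem' := ⟨1, one_mem _, fun x x' hx hx' => by
          rw [show x' = x from Subtype.ext hx']; simp⟩
        mul_mem' := fun {g h} ⟨β, hβ, hβe⟩ ⟨γ, hγ, hγe⟩ => ⟨β * γ, mul_mem hβ hγ, hcomp hβe hγe⟩
        inv_mem' := fun {g} ⟨β, hβ, hβe⟩ => ⟨β⁻¹, inv_mem hβ, hinvc hβe⟩ }
    refine fun l hl => (hLgen A ?_ hl : l ∈ A)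
    rintro g hg _ ⟨t, ht, rfl⟩
    obtain ⟨β, hβ, hβe⟩ := hr g hg
    have htP : (t : Ω) ∈ P := ht
    have htM := mem_normalizer_sup_C hT (hTS htP.1) htP.2 hQ.1
    exact ⟨β * normAut (t : Ω) htM * β⁻¹, Subgroup.subset_closure ⟨_,
      mem_autInducedBy_iff.2 ⟨t, htP.1, fun _ => rfl⟩, β, hβ, rfl⟩,
      hcomp (hcomp hβe fun x x' hx hx' => by
        rw [show x' = t * x * t⁻¹ from Subtype.ext (hx'.trans rfl), map_mul, map_mul, map_inv])
        (hinvc hβe)⟩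
  have honto : ∀ ψ ∈ closAut T F M, ∃ l ∈ L, ∀ (x x' : N) (hx : (x : Ω) ∈ M),
      (x' : Ω) = ψ ⟨x, hx⟩ → ι x' = l * ι x * l⁻¹ := by
    let A : Subgroup (MulAut M) :=
      { carrier := {ψ | ∃ l ∈ L, ∀ (x x' : N) (hx : (x : Ω) ∈ M),
          (x' : Ω) = ψ ⟨x, hx⟩ → ι x' = l * ι x * l⁻¹}
        one_mem' := ⟨1, one_mem _, fun x x' hx hx' => by
          rw [show x' = x from Subtype.ext hx']; simp⟩
        mul_mem' := fun {β γ} ⟨g, hg, hβe⟩ ⟨h, hh, hγe⟩ => ⟨g * h, mul_mem hg hh, hcomp hβe hγe⟩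
        inv_mem' := fun {β} ⟨g, hg, hβe⟩ => ⟨g⁻¹, inv_mem hg, hinvc hβe⟩ }
    refine fun ψ hψ => ((Subgroup.closure_le A).2 ?_ hψ : ψ ∈ A)
    rintro _ ⟨b, hb, β, hβ, rfl⟩
    obtain ⟨t, ht, hte⟩ := mem_autInducedBy_iff.1 hb
    have htQ : t ∈ Subgroup.normalizer (Q : Set Ω) := mem_normalizer_of_forall fun q hq => by
      have h1 := apply_mem_left hinv hQ (autInducedBy_le_autGroup hMS
        (mem_autInducedBy_iff.2 ⟨t, hTS ht, hte⟩)) (x := ⟨q, hQM hq⟩) hq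
      rwa [hte] at h1
    obtain ⟨g, hg, hge⟩ : ∃ g ∈ G₀, ∀ (x x' : N) (hx : (x : Ω) ∈ M),
        (x' : Ω) = β ⟨x, hx⟩ → ι x' = g * ι x * g⁻¹ := by
      have hβH := (mem_autGroup_iff F hMS).1 hβ
      obtain ⟨χ, hχ, hχe⟩ := exists_extension hMrec hβH (le_sup_left : M ≤ R)
        (sup_le (le_extender hβH) (centralizerIn_le_extender _ _))
      have hχR : ∀ z : R, χ z ∈ R := by
        intro z
        have hle : R ≤ (R.comap χ).map R.subtype := sup_le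
          (fun m hm => ⟨⟨m, le_sup_left (b := D) hm⟩, by
            change χ _ ∈ R
            rw [show (⟨m, le_sup_left (b := D) hm⟩ : R) = Subgroup.inclusion le_sup_left ⟨m, hm⟩
              from rfl, hχe]
            exact le_sup_left (b := D) (β ⟨m, hm⟩).2, rfl⟩)
          fun d hd => ⟨⟨d, le_sup_right (a := M) hd⟩, le_sup_right (a := M)
            (apply_mem_centralizerIn (c := ⟨d, le_sup_right (a := M) hd⟩) hχ le_sup_left hχe hd),
            rfl⟩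
        obtain ⟨z', hz', hze⟩ := hle z.2
        rwa [show z = z' from Subtype.ext hze.symm]
      have hRR : R = R ⊔ R := (sup_idem R).symm
      obtain ⟨χ', hχ', hχ'e⟩ := mem_of_eq_sup hRR hχ
      have hmem : χ ∈ (normSys F R hNeq hRn.1).Hom R := by
        refine ⟨hχ, hNeq ▸ hRN, fun z => hNeq ▸ hRN (hχR z), χ', hχ', fun x => hχ'e _, ?_⟩
        refine Subgroup.eq_of_le_of_card_ge ?_ (le_of_eq ?_)
        · rintro _ ⟨z, -, rfl⟩
          rw [hχ'e]
          exact hχR _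
        · rw [Subgroup.card_map_of_injective (F.injective_of_mem hχ')]
          exact (Nat.card_congr (Subgroup.subgroupOfEquivOfLe hRR.le).toEquiv).symm
      obtain ⟨g, hg⟩ := (hreal R hRN χ fun z => hRN (hχR z)).1 hmem
      have key : ∀ (x x' : N) (hx : (x : Ω) ∈ M), (x' : Ω) = β ⟨x, hx⟩ →
          ι x' = g * ι x * g⁻¹ := fun x x' hx hx' => by
        rw [show x' = ⟨χ ⟨x, le_sup_left (b := D) hx⟩, hRN (hχR _)⟩ from
          Subtype.ext (hx'.trans (hχe ⟨x, hx⟩).symm), hg]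
      refine ⟨g, mem_normalizer_of_forall ?_, key⟩
      rintro _ ⟨x, hx, rfl⟩
      exact ⟨⟨β ⟨x, hx⟩, hMN (β _).2⟩, (β ⟨x, hx⟩).2, key x _ hx rfl⟩
    have htN : t ∈ N := ⟨hTS ht, htQ⟩
    refine ⟨g * ι ⟨t, htN⟩ * g⁻¹, hLn g hg _ (hPL ⟨_, ⟨ht, htQ⟩, rfl⟩),
      hcomp (hcomp hge fun x x' hx hx' => ?_) (hinvc hge)⟩
    rw [show x' = ⟨t, htN⟩ * x * ⟨t, htN⟩⁻¹ from Subtype.ext (hx'.trans (hte _)), map_mul, map_mul,
      map_inv]
  -- the action modulo `Q`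
  have hLR : ∀ l ∈ L, ∀ x ∈ Rι, l * x * l⁻¹ * x⁻¹ ∈ Qι := by
    let A : Subgroup G :=
      { carrier := {l | ∀ x ∈ Rι, l * x * l⁻¹ * x⁻¹ ∈ Qι}
        one_mem' := fun x _ => by simp
        mul_mem' := fun {g h} hg hh x hx => by
          have h1 := Qι.mul_mem (hQnorm g _ (hh x hx)) (hg x hx)
          convert h1 using 1
          group
        inv_mem' := fun {g} hg x hx => by
          have h1 := Qι.inv_mem (hQnorm g⁻¹ _ (hg x hx))
          convert h1 using 1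
          group }
    refine fun l hl => (hLgen A ?_ hl : l ∈ A)
    rintro g hg _ ⟨t, ht, rfl⟩ x hx
    obtain ⟨r, hr, hre⟩ : g⁻¹ * x * g ∈ Rι := by simpa using hRnorm.conj_mem _ hx g⁻¹
    have h1 : (t : Ω) * r * (t : Ω)⁻¹ * (r : Ω)⁻¹ ∈ Q := by
      rw [← hRT]
      refine ⟨R.mul_mem (conj_mem_of_mem_normalizer (hNR t t.2) hr) (R.inv_mem hr), ?_⟩
      have h2 := conj_mem_of_mem_normalizer (mem_normalizer_of_stronglyClosed hT r.2.1)
        (T.inv_mem (ht : (t : Ω) ∈ P).1)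
      have h3 := T.mul_mem (ht : (t : Ω) ∈ P).1 h2
      rwa [← mul_assoc, ← mul_assoc] at h3
    have h4 := hQnorm g _ (show ι (t * r * t⁻¹ * r⁻¹) ∈ Qι from ⟨_, h1, rfl⟩)
    rw [map_mul, map_mul, map_mul, map_inv, map_inv, hre] at h4
    convert h4 using 1
    group
  -- the centralizer of `Q` in `L`
  set K := L ⊓ Subgroup.centralizer (Qι : Set G) with hKdef
  have hKn : ∀ l ∈ L, ∀ k ∈ K, l * k * l⁻¹ ∈ K := fun l hl k hk =>
    ⟨L.mul_mem (L.mul_mem hl hk.1) (L.inv_mem hl), fun q hq => by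
      have h1 := hk.2 _ (by simpa using hQnorm l⁻¹ q hq : l⁻¹ * q * l ∈ Qι)
      calc q * (l * k * l⁻¹) = l * ((l⁻¹ * q * l) * k) * l⁻¹ := by group
        _ = _ := by rw [h1]; group⟩
  have hKp : IsPGroup p K := by
    rintro ⟨k, hk⟩
    obtain ⟨e, o, ho, hko⟩ := Nat.exists_eq_pow_mul_and_not_dvd (orderOf_pos k).ne' p
      (Fact.out : p.Prime).ne_one
    set u := k ^ p ^ e with hu
    have huK : u ∈ K := pow_mem hk _
    have huo : u ^ o = 1 := by rw [hu, ← pow_mul, ← hko, pow_orderOf_eq_one]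
    obtain ⟨n, hn⟩ := IsPGroup.iff_card.1 hNp
    have huR : u ∈ Subgroup.centralizer (Rι : Set G) := fun x hx => by
      set z := u * x * u⁻¹ * x⁻¹ with hz
      have hzQ : z ∈ Qι := hLR u huK.1 x hx
      have hpow : ∀ m : ℕ, u ^ m * x * (u ^ m)⁻¹ = z ^ m * x := by
        intro m
        induction m with
        | zero => simp
        | succ m ih =>
          have h1 : z ^ m * u = u * z ^ m := huK.2 _ (Qι.pow_mem hzQ m)
          calc u ^ (m + 1) * x * (u ^ (m + 1))⁻¹ = u * (u ^ m * x * (u ^ m)⁻¹) * u⁻¹ := by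
                rw [pow_succ']; group
            _ = u * z ^ m * x * u⁻¹ := by rw [ih]; group
            _ = z ^ m * u * x * u⁻¹ := by rw [h1]
            _ = z ^ (m + 1) * x := by rw [pow_succ, hz]; group
      have hzo : z ^ o = 1 := by
        have h1 := hpow o
        rw [huo, one_mul, inv_one, mul_one] at h1
        exact mul_eq_right.1 h1.symm
      obtain ⟨q, -, hq⟩ := hzQ
      have hzp : z ^ p ^ n = 1 := by rw [← hq, ← map_pow, ← hn, pow_card_eq_one', map_one]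
      have h1 := Nat.dvd_gcd (orderOf_dvd_of_pow_eq_one hzo) (orderOf_dvd_of_pow_eq_one hzp)
      rw [Nat.Coprime.gcd_eq_one (Nat.Coprime.pow_right n
        ((Fact.out : p.Prime).coprime_iff_not_dvd.2 ho).symm), Nat.dvd_one, orderOf_eq_one_iff] at h1
      exact (eq_mul_inv_iff_mul_eq.1 ((mul_inv_eq_one.1 (hz ▸ h1)).symm))
    obtain ⟨s, -, hs⟩ := hcentR huR
    obtain ⟨j, hj⟩ := hNp s
    refine ⟨e + j, Subtype.ext ?_⟩
    change k ^ p ^ (e + j) = 1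
    rw [pow_add, pow_mul, ← hu, ← hs, ← map_pow, hj, map_one]
  -- the Sylow subgroup of `L`
  set W := ι.range ⊓ L with hWdef
  have hS₀G₀ : (S₀ : Subgroup G) ≤ G₀ := hS₀ ▸ hNG₀
  have hWp : IsPGroup p W := (hS₀ ▸ S₀.2 : IsPGroup p ι.range).to_le inf_le_left
  have hWi : ¬ p ∣ W.relIndex L := by
    have h := not_dvd_relIndex_inf (T := (S₀ : Subgroup G)) (N := G₀) (C := L) S₀.2 hS₀G₀
      (fun h => S₀.not_dvd_index (h.trans (Subgroup.relIndex_dvd_index_of_le hS₀G₀)))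
      hLG₀ fun g hg => mem_normalizer_of_forall (hLn g hg)
    rwa [hS₀] at h
  have hPW : Pι ≤ W := le_inf hPrange hPL
  have hKW : K ≤ W := by
    obtain ⟨g, hg, hgK⟩ := exists_conj_mem_of_le hKp hWp inf_le_left inf_le_right hWi
    intro k hk
    have h1 := hgK _ (hKn g⁻¹ (L.inv_mem hg) k hk)
    rwa [show g * (g⁻¹ * k * (g⁻¹)⁻¹) * g⁻¹ = k by group] at h1
  have hPclosed : ∀ (g : G) (t : N), (t : Ω) ∈ P → g * ι t * g⁻¹ ∈ W → g * ι t * g⁻¹ ∈ Pι := by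
    rintro g t ht ⟨⟨b, hb⟩, -⟩
    exact ⟨b, ⟨hclosed g t b ht.1 hb, b.2.2⟩, hb⟩
  -- `L` is generated by `P` and its conjugates in `L`
  have hgen : ∀ A : Subgroup G, Pι ≤ A → (∀ l ∈ L, ∀ a ∈ A, l * a * l⁻¹ ∈ A) → L ≤ A := by
    intro A hPA hAn
    refine hLgen A ?_
    intro g hg
    have hle : Pι.map (MulAut.conj g).toMonoidHom ≤ L := by
      rintro _ ⟨x, hx, rfl⟩
      exact hLn g hg x (hPL hx)
    obtain ⟨h, hh, hhW⟩ := exists_conj_mem_of_le
      (((hWp.to_le hPW).map (MulAut.conj g).toMonoidHom)) hWp hle inf_le_right hWi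
    rintro _ ⟨t, ht, rfl⟩
    have h1 := hhW _ ⟨ι t, ⟨t, ht, rfl⟩, rfl⟩
    rw [MulEquiv.coe_toMonoidHom, MulAut.conj_apply,
      show h * (g * ι t * g⁻¹) * h⁻¹ = h * g * ι t * (h * g)⁻¹ by group] at h1
    have h2 := hAn h⁻¹ (L.inv_mem hh) _ (hPA (hPclosed _ t ht h1))
    rwa [show h⁻¹ * (h * g * ι t * (h * g)⁻¹) * (h⁻¹)⁻¹ = g * ι t * g⁻¹ by group] at h2
  -- commutators with `K`
  have hLK : ∀ l ∈ L, ∀ k ∈ K, l * k * l⁻¹ * k⁻¹ ∈ Qι := by
    let A : Subgroup G :=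
      { carrier := {l | l ∈ L ∧ ∀ k ∈ K, l * k * l⁻¹ * k⁻¹ ∈ Qι}
        one_mem' := ⟨one_mem _, fun k _ => by simp⟩
        mul_mem' := fun {g h} hg hh => ⟨L.mul_mem hg.1 hh.1, fun k hk => by
          have h1 := Qι.mul_mem (hQnorm g _ (hh.2 k hk)) (hg.2 k hk)
          convert h1 using 1
          group⟩
        inv_mem' := fun {g} hg => ⟨L.inv_mem hg.1, fun k hk => by
          have h1 := Qι.inv_mem (hQnorm g⁻¹ _ (hg.2 k hk))
          convert h1 using 1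
          group⟩ }
    refine fun l hl => (hgen A ?_ ?_ hl).2
    · rintro _ ⟨t, ht, rfl⟩
      refine ⟨hPL ⟨t, ht, rfl⟩, fun k hk => ?_⟩
      obtain ⟨⟨b, rfl⟩, -⟩ := hKW hk
      have hbQ : ∀ q ∈ Q, q * (b : Ω) = (b : Ω) * q := fun q hq => by
        have h1 := hk.2 (ι ⟨q, hQN hq⟩) ⟨_, hq, rfl⟩
        rw [← map_mul, ← map_mul] at h1
        exact congrArg Subtype.val (hι h1)
      have hT' : (t : Ω) * b * (t : Ω)⁻¹ * (b : Ω)⁻¹ ∈ T := by
        have h2 := conj_mem_of_mem_normalizer (mem_normalizer_of_stronglyClosed hT b.2.1)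
          (T.inv_mem (ht : (t : Ω) ∈ P).1)
        have h3 := T.mul_mem (ht : (t : Ω) ∈ P).1 h2
        rwa [← mul_assoc, ← mul_assoc] at h3
      refine ⟨t * b * t⁻¹ * b⁻¹, ?_, by rw [map_mul, map_mul, map_mul, map_inv, map_inv]⟩
      refine hQ.2 Q (isConj_refl hQ.1) ⟨hT', fun q hq => ?_⟩
      have h4 : Commute q (b : Ω) := hbQ q hq
      have h5 : Commute q ((t : Ω) * b * (t : Ω)⁻¹) := by
        have hq' : (t : Ω)⁻¹ * q * t ∈ Q :=
          (Subgroup.mem_normalizer_iff''.1 (ht : (t : Ω) ∈ P).2 q).1 hq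
        change q * _ = _ * q
        calc q * ((t : Ω) * b * (t : Ω)⁻¹) = t * (((t : Ω)⁻¹ * q * t) * b) * (t : Ω)⁻¹ := by group
          _ = _ := by rw [hbQ _ hq']; group
      exact (h5.mul_right h4.inv_right).eq
    · intro g hg a ha
      refine ⟨L.mul_mem (L.mul_mem hg ha.1) (L.inv_mem hg), fun k hk => ?_⟩
      have hk' := hKn g⁻¹ (L.inv_mem hg) k hk
      have h1 := hQnorm g _ (ha.2 _ hk')
      convert h1 using 1
      group
  -- `L` has Sylow subgroup `P`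
  have hWP : W ≤ Pι := by
    have hE : autInducedBy T Q ≤ E.autGroup Q := autInducedBy_le_autGroup hQ.1
    have hQnE := fullyNormalized_of_stronglyClosed hS hF hT hinv.1 hQ.1 hQn
    have hi := ((isFullyAutomized_iff hTp).1
      (fullyAutomized_receptive_of_fullyNormalized hTp hEs hQnE).1).2
    have hsylE : E.autGroup Q ⊓ autInducedBy S Q ≤ autInducedBy T Q := by
      set A := autInducedBy T Q
      set B := E.autGroup Q ⊓ autInducedBy S Q
      have hAB : A ≤ B := le_inf hE (autInducedBy_mono hTS)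
      have hBp : IsPGroup p B := (isPGroup_autInducedBy hS Q).to_le inf_le_right
      obtain ⟨g, hg, hgB⟩ := exists_conj_mem_of_le hBp (isPGroup_autInducedBy hTp Q) inf_le_left hE hi
      have hle : B.map (MulAut.conj g).toMonoidHom ≤ A := by
        rintro _ ⟨b, hb, rfl⟩
        exact hgB b hb
      refine (Subgroup.eq_of_le_of_card_ge hAB ?_).ge
      rw [← Subgroup.card_map_of_injective (K := B) (f := (MulAut.conj g).toMonoidHom)
        (MulAut.conj g).injective]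
      exact Subgroup.card_le_of_le hle
    set L' := Subgroup.map L.subtype (commutator L)
    have hL'n : ∀ l ∈ L, ∀ a ∈ L', l * a * l⁻¹ ∈ L' := by
      rintro l hl _ ⟨a, ha, rfl⟩
      exact ⟨⟨l, hl⟩ * a * ⟨l, hl⟩⁻¹, Subgroup.Normal.conj_mem inferInstance a ha _, rfl⟩
    have hL'L : L' ≤ L := Subgroup.map_subtype_le _
    have hA : ∀ l ∈ L, ∀ a ∈ Pι ⊔ L', l * a * l⁻¹ ∈ Pι ⊔ L' := by
      intro l hl a ha
      have haL : a ∈ L := sup_le hPL hL'L ha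
      have h2 : l * a * l⁻¹ * a⁻¹ ∈ L' := ⟨⟨l, hl⟩ * ⟨a, haL⟩ * ⟨l, hl⟩⁻¹ * ⟨a, haL⟩⁻¹,
        Subgroup.commutator_mem_commutator (Subgroup.mem_top _) (Subgroup.mem_top _), rfl⟩
      have h3 := Subgroup.mul_mem _ (le_sup_right (a := Pι) h2) ha
      rwa [inv_mul_cancel_right] at h3
    intro w hw
    have hwA : w ∈ ((Pι ⊔ L' : Subgroup G) : Set G) := hgen _ le_sup_left hA hw.2
    rw [Subgroup.coe_mul_of_left_le_normalizer_right _ _
      (fun x hx => mem_normalizer_of_forall (hL'n x (hPL hx)))] at hwA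
    obtain ⟨a, ha, b, hb, rfl⟩ := Set.mem_mul.1 hwA
    refine Pι.mul_mem ha ?_
    have hbW : b ∈ W := by
      have := W.mul_mem (W.inv_mem (hPW ha)) hw
      rwa [inv_mul_cancel_left] at this
    -- the focal subgroup
    let W' : Sylow p L := (hWp.comap_subtype (K := L)).toSylow hWi
    have hW' : (W' : Subgroup L) = W.subgroupOf L := IsPGroup.toSylow_coe _ _
    obtain ⟨b', hb', rfl⟩ := hb
    have hb'W : b' ∈ commutator L ⊓ (W' : Subgroup L) := ⟨hb', by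
      rw [hW']; exact hbW⟩
    rw [Subgroup.commutator_inf_eq_focalSubgroup W', Subgroup.focalSubgroup_def, hW'] at hb'W
    revert hb'W
    suffices hle : Subgroup.closure {g : L | g ∈ W.subgroupOf L ∧
        ∃ x ∈ W.subgroupOf L, ∃ u : L, g = x * u * x⁻¹ * u⁻¹} ≤ Pι.subgroupOf L from fun h => hle h
    refine (Subgroup.closure_le _).2 ?_
    rintro _ ⟨hmem, x, hx, u, rfl⟩
    rw [Subgroup.mem_subgroupOf] at hmem
    change (x : G) * u * (x : G)⁻¹ * (u : G)⁻¹ ∈ W at hmem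
    refine Subgroup.mem_subgroupOf.2 ?_
    change (x : G) * u * (x : G)⁻¹ * (u : G)⁻¹ ∈ Pι
    have hxW : (x : G) ∈ W := Subgroup.mem_subgroupOf.1 hx
    -- decompose `x`
    obtain ⟨⟨s, hs⟩, hxL⟩ := hxW
    obtain ⟨ψ, hψ, hψe⟩ := hspec _ hxL
    obtain ⟨-, -, a', ha', hae'⟩ := closAut_le_extAut hinv hQ hψ
    have haS : a' ∈ autInducedBy S Q := mem_autInducedBy_iff.2 ⟨s, s.2.1, fun q => by
      have h1 := hψe ⟨q, hQN q.2⟩ ⟨a' q, hQN (a' q).2⟩ (hQM q.2) (hae' q).symm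
      rw [← hs, ← map_inv, ← map_mul, ← map_mul] at h1
      exact congrArg Subtype.val (hι h1)⟩
    obtain ⟨t, ht, hte⟩ := mem_autInducedBy_iff.1 (hsylE ⟨ha', haS⟩)
    have htP : t ∈ P := ⟨ht, mem_normalizer_of_forall fun q hq => hte ⟨q, hq⟩ ▸ (a' ⟨q, hq⟩).2⟩
    set t₁ : N := ⟨t, hPN htP⟩
    set k₁ : G := ι (t₁⁻¹ * s) with hk₁
    have hxk : (x : G) = ι t₁ * k₁ := by
      rw [hk₁, ← map_mul, mul_inv_cancel_left, hs]
    have hkK : k₁ ∈ K := by
      refine ⟨?_, ?_⟩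
      · rw [hk₁, map_mul, map_inv, hs]
        exact L.mul_mem (L.inv_mem (hPL ⟨t₁, htP, rfl⟩)) hxL
      · rintro _ ⟨q, hq, rfl⟩
        rw [hk₁, ← map_mul, ← map_mul]
        refine congrArg ι (Subtype.ext ?_)
        change (q : Ω) * (t⁻¹ * s) = t⁻¹ * s * q
        have h1 := hψe q ⟨a' ⟨q, hq⟩, hQN (a' _).2⟩ (hQM hq) (hae' ⟨q, hq⟩).symm
        rw [← hs, ← map_inv, ← map_mul, ← map_mul] at h1
        have h2 : t * (q : Ω) * t⁻¹ = (s : Ω) * q * (s : Ω)⁻¹ :=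
          (hte ⟨q, hq⟩).symm.trans (congrArg Subtype.val (hι h1))
        calc (q : Ω) * (t⁻¹ * s) = t⁻¹ * (t * q * t⁻¹) * s := by group
          _ = _ := by rw [h2]; group
    set z := (u : G) * k₁ * (u : G)⁻¹ * k₁⁻¹ with hz
    have hzQ : z ∈ Qι := hLK u u.2 k₁ hkK
    have hzP : z ∈ Pι := by
      obtain ⟨q, hq, hqe⟩ := hzQ
      exact ⟨q, le_normalizerIn hQ.1 hq, hqe⟩
    have huk : (u : G) * k₁ * (u : G)⁻¹ ∈ W := hKW (hKn u u.2 k₁ hkK)
    have hut : (u : G) * ι t₁ * (u : G)⁻¹ ∈ W := by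
      have h1 : (u : G) * x * (u : G)⁻¹ ∈ W := by
        have h2 := W.mul_mem (W.inv_mem hmem) (⟨⟨s, hs⟩, hxL⟩ : (x : G) ∈ W)
        convert h2 using 1
        group
      have h2 := W.mul_mem h1 (W.inv_mem huk)
      convert h2 using 1
      rw [hxk]
      group
    have h1 := Pι.mul_mem (Pι.mul_mem (⟨t₁, htP, rfl⟩ : ι t₁ ∈ Pι) (Pι.inv_mem hzP))
      (Pι.inv_mem (hPclosed (u : G) t₁ htP hut))
    have hkz : k₁ * z⁻¹ = z⁻¹ * k₁ := (hkK.2 _ (Qι.inv_mem hzQ)).symm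
    convert h1 using 1
    rw [hxk]
    calc ι t₁ * k₁ * u * (ι t₁ * k₁)⁻¹ * (u : G)⁻¹
        = ι t₁ * (k₁ * ((u : G) * k₁⁻¹ * (u : G)⁻¹)) * ((u : G) * (ι t₁)⁻¹ * (u : G)⁻¹) := by group
      _ = ι t₁ * (k₁ * z⁻¹) * k₁⁻¹ * ((u : G) * (ι t₁)⁻¹ * (u : G)⁻¹) := by
          rw [show (u : G) * k₁⁻¹ * (u : G)⁻¹ = k₁⁻¹ * z⁻¹ by rw [hz]; group,
            ← mul_assoc k₁, mul_inv_cancel, one_mul,
            show ι t₁ * (k₁ * z⁻¹) * k₁⁻¹ = ι t₁ * z⁻¹ by rw [hkz]; group]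
      _ = _ := by rw [hkz]; group
  refine ⟨G, _, hG, ι, L, hι, hPL,
    fun h => hWi (by rwa [le_antisymm hWP hPW]), fun s hs => ?_, fun l hl hlQ => ?_, hspec, honto,
    fun l _ => hmaps l⟩
  · obtain ⟨b, hb, hbe⟩ := hWP ⟨⟨s, rfl⟩, hs⟩
    rw [← hι hbe]
    exact (hb : (b : Ω) ∈ P).1
  · have hlK : l ∈ K := ⟨hl, by
      rintro _ ⟨q, hq, rfl⟩
      exact (hlQ q hq).symm⟩
    obtain ⟨b, hb, rfl⟩ := hWP (hKW hlK)
    refine ⟨b, hQ.2 Q (isConj_refl hQ.1) ⟨(hb : (b : Ω) ∈ P).1, fun q hq => ?_⟩, rfl⟩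
    have h1 := hlK.2 (ι ⟨q, hQN hq⟩) ⟨_, hq, rfl⟩
    rw [← map_mul, ← map_mul] at h1
    exact congrArg Subtype.val (hι h1)

/-- `Aut_T(Q C)` is a Sylow subgroup of its normal closure. -/
theorem not_dvd_relIndex_closAut (hS : IsPGroup p S) (hF : F.IsSaturated p) (hEs : E.IsSaturated p)
    (hinv : E.IsInvariantIn F) {Q : Subgroup Ω} (hQ : E.IsCentric Q) (hQn : F.IsFullyNormalized Q) :
    ¬ p ∣ (autInducedBy T (Q ⊔ centralizerIn S T)).relIndex
      (closAut T F (Q ⊔ centralizerIn S T)) := by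
  have hT := hinv.2.1
  have hTS := hT.1
  set M := Q ⊔ centralizerIn S T
  set N := normalizerIn S Q with hN
  obtain ⟨G, _, _, ι, L, hι, hPL, hi, -, -, hspec, honto, -⟩ :=
    exists_local_group hS hF hEs hinv hQ hQn
  have hMN : M ≤ N := sup_le (le_normalizerIn (hQ.1.trans hTS)) fun c hc =>
    ⟨hc.1, mem_normalizer_of_forall_commute fun q hq => hc.2 q (hQ.1 hq)⟩
  choose ψ hψ hψe using hspec
  have huniq : ∀ (l : G) (α β : MulAut M),
      (∀ x : M, ι ⟨α x, hMN (α x).2⟩ = l * ι ⟨x, hMN x.2⟩ * l⁻¹) →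
      (∀ x : M, ι ⟨β x, hMN (β x).2⟩ = l * ι ⟨x, hMN x.2⟩ * l⁻¹) → α = β := fun l α β hα hβ =>
    MulEquiv.ext fun x => Subtype.ext (congrArg Subtype.val (hι ((hα x).trans (hβ x).symm)) :)
  have hψ' : ∀ (l : L) (x : M), ι ⟨ψ l l.2 x, hMN (ψ l l.2 x).2⟩ =
      (l : G) * ι ⟨x, hMN x.2⟩ * (l : G)⁻¹ :=
    fun l x => hψe l l.2 ⟨x, hMN x.2⟩ _ x.2 rfl
  let f : L →* MulAut M :=
    { toFun := fun l => ψ l l.2
      map_one' := huniq 1 _ _ (hψ' 1) (fun x => by simp)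
      map_mul' := fun a b => huniq _ _ _ (hψ' (a * b)) fun x => by
        refine (hψ' a (ψ b b.2 x)).trans ?_
        rw [hψ' b x, Subgroup.coe_mul]
        group }
  set Pι := ((normalizerIn T Q).subgroupOf N).map ι
  have hfL : closAut T F M = (⊤ : Subgroup L).map f := by
    refine le_antisymm (fun α hα => ?_) ?_
    · obtain ⟨l, hl, hle⟩ := honto α hα
      exact ⟨⟨l, hl⟩, trivial, huniq l _ _ (hψ' ⟨l, hl⟩) fun x => hle _ _ x.2 rfl⟩
    · rintro _ ⟨l, -, rfl⟩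
      exact hψ l l.2
  have hfP : autInducedBy T M = (Pι.subgroupOf L).map f := by
    ext α
    constructor
    · intro hα
      obtain ⟨t, ht, hte⟩ := mem_autInducedBy_iff.1 hα
      have hMS := sup_le_S hT hQ.1
      have := finite_of_le hMS
      have := finite_of_le (hQ.1.trans hTS)
      have htQ : t ∈ Subgroup.normalizer (Q : Set Ω) := mem_normalizer_of_forall fun q hq => by
        have h1 := apply_mem_left hinv hQ (autInducedBy_le_autGroup hMS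
          (mem_autInducedBy_iff.2 ⟨t, hTS ht, hte⟩))
          (x := ⟨q, le_sup_left (b := centralizerIn S T) hq⟩) hq
        rwa [hte] at h1
      have htN : t ∈ N := ⟨hTS ht, htQ⟩
      have htP : ι ⟨t, htN⟩ ∈ Pι := ⟨_, ⟨ht, htQ⟩, rfl⟩
      refine ⟨⟨_, hPL htP⟩, htP, huniq _ _ _ (hψ' ⟨_, hPL htP⟩) fun x => ?_⟩
      rw [show (⟨α x, hMN (α x).2⟩ : N) = ⟨t, htN⟩ * ⟨x, hMN x.2⟩ * ⟨t, htN⟩⁻¹ from
        Subtype.ext (hte x), map_mul, map_mul, map_inv]
    · rintro ⟨⟨l, hl⟩, hlP, rfl⟩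
      obtain ⟨t, ht, hte⟩ := hlP
      refine mem_autInducedBy_iff.2 ⟨t, (ht : (t : Ω) ∈ normalizerIn T Q).1, fun x => ?_⟩
      have h1 := hψ' ⟨l, hl⟩ x
      have hte' : ι t = l := hte
      subst hte'
      rw [← map_inv, ← map_mul, ← map_mul] at h1
      exact congrArg Subtype.val (hι h1)
  rw [hfL, hfP]
  refine not_dvd_relIndex_map f le_top ?_
  rwa [Subgroup.relIndex_top_right]

/-- The local use of Glauberman's theorem. -/
theorem closAut_fix (hS : IsPGroup p S) (hF : F.IsSaturated p) (hEs : E.IsSaturated p)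
    (hinv : E.IsInvariantIn F) (hp2 : p ≠ 2) {Q : Subgroup Ω} (hQ : E.IsCentric Q)
    (hQn : F.IsFullyNormalized Q) {y : Ω} (hy : y ∈ centralizerIn S T)
    (hsup : ¬ jGen 0 (normalizerIn T Q) ≤ Q →
      FixAt F E hinv p (Q ⊔ jGen 0 (normalizerIn T Q)) y)
    (hJ : jGen 0 (normalizerIn T Q) ≤ Q → E.IsCentric (jGen 0 (normalizerIn T Q)) ∧
      FixAt F E hinv p (jGen 0 (normalizerIn T Q)) y) :
    ∀ ψ ∈ closAut T F (Q ⊔ centralizerIn S T),
      ∀ x : ↥(Q ⊔ centralizerIn S T), (x : Ω) = y → (ψ x : Ω) = y := by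
  have hT := hinv.2.1
  have hTS := hT.1
  have := finite_of_le hTS
  set C := centralizerIn S T
  set M := Q ⊔ C
  set N := normalizerIn S Q
  set P := normalizerIn T Q
  set J := jGen 0 P
  obtain ⟨G, _, _, ι, L, hι, hPL, hi, hLT, hcent, hspec, honto, hmaps⟩ :=
    exists_local_group hS hF hEs hinv hQ hQn
  have hMS : M ≤ S := sup_le_S hT hQ.1
  have hNS : N ≤ S := normalizerIn_le Q
  have := finite_of_le hNS
  have hPT : P ≤ T := normalizerIn_le Q
  have hQP : Q ≤ P := le_normalizerIn hQ.1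
  have hPN : P ≤ N := fun x hx => ⟨hTS hx.1, hx.2⟩
  have hQN : Q ≤ N := hQP.trans hPN
  have hCN : C ≤ N := fun c hc =>
    ⟨hc.1, mem_normalizer_of_forall_commute fun q hq => hc.2 q (hQ.1 hq)⟩
  have hMN : M ≤ N := sup_le hQN hCN
  have := finite_of_le (hPN.trans hNS)
  have hJP : J ≤ P := jGen_le 0 P
  set y₀ : N := ⟨y, hCN hy⟩
  set Pι := (P.subgroupOf N).map ι
  set Qι := (Q.subgroupOf N).map ι
  set Y := Subgroup.zpowers y
  have hYN : Y ≤ N := Subgroup.zpowers_le.2 (hCN hy)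
  have hYC : Y ≤ C := Subgroup.zpowers_le.2 hy
  have hPY : P ⊔ Y ≤ N := sup_le hPN hYN
  have := finite_of_le (hPY.trans hNS)
  have hJT : jGen 0 (P ⊔ Y) ⊓ T = J := jGen_sup_inf hPT (fun u hu => hy.2 u (hPT hu)) fun x hx hxT =>
    hQP (mem_of_mem_sup hQ (le_sup_right (a := Q) (hYC hx)) hxT)
  -- `L` moves `y` inside `Q`
  have hyz : ∀ l ∈ L, ∃ q : N, (q : Ω) ∈ Q ∧ l * ι y₀ * l⁻¹ = ι y₀ * ι q := by
    intro l hl
    obtain ⟨ψ, hψ, hψe⟩ := hspec l hl
    have hyM : y ∈ M := le_sup_right (a := Q) hy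
    have h1 := hψe y₀ ⟨ψ ⟨y, hyM⟩, hMN (ψ _).2⟩ hyM rfl
    have hq : y⁻¹ * (ψ ⟨y, hyM⟩ : Ω) ∈ Q := mem_of_mem_sup hQ
      (M.mul_mem (M.inv_mem hyM) (ψ _).2) ((closAut_le_extAut hinv hQ hψ).2.1 ⟨y, hyM⟩)
    refine ⟨⟨_, hQN hq⟩, hq, ?_⟩
    rw [← h1, ← map_mul]
    exact congrArg ι (Subtype.ext (mul_inv_cancel_left y _).symm)
  have hQnorm : ∀ l ∈ L, ∀ q : N, (q : Ω) ∈ Q → l * ι q * l⁻¹ ∈ Qι := by
    intro l hl q hq
    obtain ⟨ψ, hψ, hψe⟩ := hspec l hl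
    have hqQ := apply_mem_left hinv hQ (closAut_le_extAut hinv hQ hψ).1
      (x := ⟨q, le_sup_left (b := C) hq⟩) hq
    exact ⟨⟨_, hQN hqQ⟩, hqQ, hψe q _ (le_sup_left (b := C) hq) rfl⟩
  -- elements of order prime to `p` normalizing `J`
  have hco : ∀ l ∈ L, l ∈ Subgroup.normalizer (((J.subgroupOf N).map ι : Subgroup G) : Set G) →
      (orderOf l).Coprime p → l * ι y₀ = ι y₀ * l := by
    intro l hl hlJ hlo
    obtain ⟨R₁, hR₁P, hR₁c, hfix, hcase⟩ : ∃ R₁ : Subgroup Ω, R₁ ≤ P ∧ E.IsCentric R₁ ∧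
        FixAt F E hinv p R₁ y ∧ (R₁ = Q ⊔ J ∨ (R₁ = J ∧ J ≤ Q)) := by
      by_cases h : J ≤ Q
      · exact ⟨J, hJP, (hJ h).1, (hJ h).2, Or.inr ⟨rfl, h⟩⟩
      · exact ⟨Q ⊔ J, sup_le hQP hJP,
          isCentric_of_le le_sup_left ((sup_le hQP hJP).trans hPT) hQ, hsup h, Or.inl rfl⟩
    set M₁ := R₁ ⊔ C
    have hM₁N : M₁ ≤ N := sup_le (hR₁P.trans hPN) hCN
    have := finite_of_le (hM₁N.trans hNS)
    -- `l` normalizes `R₁`
    have hlR : ∀ r : N, (r : Ω) ∈ R₁ → ∃ r' : N, (r' : Ω) ∈ R₁ ∧ ι r' = l * ι r * l⁻¹ := by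
      have hle : (R₁.subgroupOf N).map ι ≤
          ((R₁.subgroupOf N).map ι).comap (MulAut.conj l).toMonoidHom := by
        have hJle : (J.subgroupOf N).map ι ≤
            ((J.subgroupOf N).map ι).comap (MulAut.conj l).toMonoidHom :=
          fun x hx => conj_mem_of_mem_normalizer hlJ hx
        rcases hcase with rfl | ⟨rfl, -⟩
        · rw [Subgroup.subgroupOf_sup hQN (hJP.trans hPN), Subgroup.map_sup]
          refine sup_le ?_ (hJle.trans (Subgroup.comap_mono le_sup_right))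
          rintro _ ⟨q, hq, rfl⟩
          exact le_sup_left (α := Subgroup _) (hQnorm l hl q hq)
        · exact hJle
      intro r hr
      obtain ⟨r', hr', he⟩ := hle ⟨r, hr, rfl⟩
      exact ⟨r', hr', he⟩
    obtain ⟨ψ, hψ, hψe⟩ := hspec l hl
    obtain ⟨hψF, hψT, a, ha, hae⟩ := closAut_le_extAut hinv hQ hψ
    have hCz : ∀ (c : Ω) (hc : c ∈ C), c⁻¹ * (ψ ⟨c, le_sup_right (a := Q) hc⟩ : Ω) ∈ R₁ := by
      intro c hc
      have hq : c⁻¹ * (ψ ⟨c, le_sup_right (a := Q) hc⟩ : Ω) ∈ Q := mem_of_mem_sup hQ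
        (M.mul_mem (M.inv_mem (le_sup_right (a := Q) hc)) (ψ _).2)
        (hψT ⟨c, le_sup_right (a := Q) hc⟩)
      rcases hcase with rfl | ⟨rfl, hJQ⟩
      · exact le_sup_left (b := J) hq
      · refine mem_jGen_of_commute (hQP hq) fun r hr => ?_
        obtain ⟨q, hq'⟩ := a.surjective ⟨r, hJQ hr⟩
        have h1 : Commute r (ψ ⟨c, le_sup_right (a := Q) hc⟩ : Ω) := by
          have h2 := congrArg (fun z => (ψ z : Ω))
            (show Subgroup.inclusion le_sup_left q * ⟨c, le_sup_right (a := Q) hc⟩ =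
              ⟨c, le_sup_right (a := Q) hc⟩ * Subgroup.inclusion le_sup_left q from
              Subtype.ext (hc.2 q (hQ.1 q.2)))
          simp only [map_mul, Subgroup.coe_mul, hae, hq'] at h2
          exact h2
        have h3 : Commute r c := hc.2 r (hQ.1 (hJQ hr))
        exact (h3.inv_right.mul_right h1).eq.symm
    have hM₁ : ∀ x : M₁, l * ι (Subgroup.inclusion hM₁N x) * l⁻¹ ∈ (M₁.subgroupOf N).map ι := by
      intro x
      obtain ⟨r, hr, c, hc, hrc⟩ := exists_mem_mul (hR₁P.trans hPT) x.2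
      obtain ⟨r', hr', hre⟩ := hlR ⟨r, hPN (hR₁P hr)⟩ hr
      have hψc := hψe ⟨c, hCN hc⟩ ⟨ψ ⟨c, le_sup_right (a := Q) hc⟩, hMN (ψ _).2⟩
        (le_sup_right (a := Q) hc) rfl
      refine ⟨r' * ⟨ψ ⟨c, le_sup_right (a := Q) hc⟩, hMN (ψ _).2⟩, ?_, ?_⟩
      · refine M₁.mul_mem (le_sup_left (b := C) hr') ?_
        have := M₁.mul_mem (le_sup_right (a := R₁) hc) (le_sup_left (b := C) (hCz c hc))
        rwa [mul_inv_cancel_left] at this
      · rw [map_mul, hre, hψc, show Subgroup.inclusion hM₁N x = ⟨r, hPN (hR₁P hr)⟩ * ⟨c, hCN hc⟩ from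
          Subtype.ext hrc.symm, map_mul]
        group
    obtain ⟨φ, hφ, hφN, hφe⟩ := hmaps l hl M₁ hM₁N fun x => Subgroup.map_le_range _ _ (hM₁ x)
    have hφM : ∀ x, φ x ∈ M₁ := fun x => by
      obtain ⟨b, hb, hbe⟩ := hM₁ x
      have : (b : Ω) = φ x := congrArg Subtype.val (hι (hbe.trans (hφe x).symm))
      exact this ▸ hb
    obtain ⟨χ, hχ, hχe⟩ := exists_iso_of_range hφ (Q := M₁) (Subgroup.eq_of_le_of_card_ge
      (by rintro _ ⟨x, rfl⟩; exact hφM x)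
      (Nat.card_congr (MonoidHom.ofInjective (F.injective_of_mem hφ)).toEquiv).le)
    have hχF : (χ : MulAut M₁) ∈ F.autGroup M₁ := (mem_autGroup_iff F (hM₁N.trans hNS)).2 hχ
    have hχe' : ∀ x : M₁, ι ⟨χ x, hM₁N (χ x).2⟩ = l * ι (Subgroup.inclusion hM₁N x) * l⁻¹ :=
      fun x => by
        rw [← hφe x]
        exact congrArg ι (Subtype.ext (hχe x))
    have hχord : (orderOf (χ : MulAut M₁)).Coprime p := by
      refine Nat.Coprime.coprime_dvd_left (orderOf_dvd_of_pow_eq_one (n := orderOf l) ?_) hlo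
      have hpow : ∀ (n : ℕ) (x : M₁), ι ⟨((χ : MulAut M₁) ^ n) x, hM₁N (((χ : MulAut M₁) ^ n) x).2⟩ =
          l ^ n * ι (Subgroup.inclusion hM₁N x) * (l ^ n)⁻¹ := by
        intro n
        induction n with
        | zero => intro x; simp [Subgroup.inclusion]
        | succ n ih =>
          intro x
          have h1 := hχe' (((χ : MulAut M₁) ^ n) x)
          rw [show Subgroup.inclusion hM₁N (((χ : MulAut M₁) ^ n) x) =
            ⟨((χ : MulAut M₁) ^ n) x, hM₁N (((χ : MulAut M₁) ^ n) x).2⟩ from rfl, ih] at h1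
          rw [show ((χ : MulAut M₁) ^ (n + 1)) x = χ (((χ : MulAut M₁) ^ n) x) by
            rw [pow_succ', MulAut.mul_apply], h1, pow_succ']
          group
      refine MulEquiv.ext fun x => Subtype.ext ?_
      have h1 := hpow (orderOf l) x
      rw [pow_orderOf_eq_one l, one_mul, inv_one, mul_one] at h1
      exact (congrArg Subtype.val (hι h1) :)
    have hχC : ∀ (c : Ω) (hc : c ∈ C), (χ ⟨c, le_sup_right (a := R₁) hc⟩ : Ω) =
        ψ ⟨c, le_sup_right (a := Q) hc⟩ := by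
      intro c hc
      have h1 : _ = l * ι ⟨c, hCN hc⟩ * l⁻¹ := hχe' ⟨c, le_sup_right (a := R₁) hc⟩
      rw [← hψe ⟨c, hCN hc⟩ ⟨ψ ⟨c, le_sup_right (a := Q) hc⟩, hMN (ψ _).2⟩
        (le_sup_right (a := Q) hc) rfl] at h1
      exact congrArg Subtype.val (hι h1)
    have hχR : ∀ x : M₁, (x : Ω) ∈ R₁ → (χ x : Ω) ∈ R₁ :=
      fun x hx => apply_mem_left hinv hR₁c hχF hx
    have hmem : (χ : MulAut M₁) ∈ extAut F E hinv R₁ := by
      refine ⟨hχF, fun x => ?_, ?_⟩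
      · obtain ⟨r, hr, c, hc, hrc⟩ := exists_mem_mul (hR₁P.trans hPT) x.2
        set w := r⁻¹ * (χ ⟨r, le_sup_left (b := C) hr⟩ : Ω) with hw
        have hwT : w ∈ T := T.mul_mem (T.inv_mem (hPT (hR₁P hr))) (hPT (hR₁P (hχR _ hr)))
        rw [show x = ⟨r, le_sup_left (b := C) hr⟩ * ⟨c, le_sup_right (a := R₁) hc⟩ from
          Subtype.ext hrc.symm, map_mul, Subgroup.coe_mul, Subgroup.coe_mul, hχC c hc]
        change (r * c)⁻¹ * ((χ ⟨r, _⟩ : Ω) * (ψ ⟨c, _⟩ : Ω)) ∈ T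
        rw [show (r * c)⁻¹ * ((χ ⟨r, le_sup_left (b := C) hr⟩ : Ω) *
            (ψ ⟨c, le_sup_right (a := Q) hc⟩ : Ω)) = c⁻¹ * w * ψ ⟨c, le_sup_right (a := Q) hc⟩ by
          rw [hw]; group, show c⁻¹ * w = w * c⁻¹ by
          rw [inv_mul_eq_iff_eq_mul, ← mul_assoc, ← commute_C hwT hc, mul_inv_cancel_right],
          mul_assoc]
        exact T.mul_mem hwT (hψT ⟨c, le_sup_right (a := Q) hc⟩)
      · obtain ⟨b, hb, hbco, hbe⟩ := exists_coprime_restrict (P := R₁) (hM₁N.trans hNS) le_sup_left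
          hχF (fun z => ⟨hχR z, fun hz => by
            have h1 := apply_mem_left hinv hR₁c (inv_mem hχF) hz
            rwa [MulAut.inv_apply_self] at h1⟩) hχord
        refine ⟨b, ?_, fun z => (hbe z).symm⟩
        have hQa : ∀ (q : Q) (hq : (q : Ω) ∈ R₁), (b ⟨q, hq⟩ : Ω) = a q := by
          intro q hq
          rw [hbe]
          have h1 : _ = l * ι ⟨q, hQN q.2⟩ * l⁻¹ := hχe' ⟨q, le_sup_left (b := C) hq⟩
          rw [← hψe ⟨q, hQN q.2⟩ ⟨a q, hQN (a q).2⟩ (le_sup_left (b := C) q.2) (hae q).symm] at h1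
          exact congrArg Subtype.val (hι h1)
        rcases hcase with rfl | ⟨rfl, hJQ⟩
        · exact mem_autGroup_of_restrict_coprime hS hEs hinv hQ
            (fullyNormalized_of_stronglyClosed hS hF hT hinv.1 hQ.1 hQn) le_sup_left hR₁P hb hbco ha
            fun q => hQa q (le_sup_left (b := J) q.2)
        · exact mem_autGroup_of_mem E (res_mem E ((mem_autGroup_iff E hQ.1).1 ha) hJQ)
            fun z => hQa (Subgroup.inclusion hJQ z) z.2
    have h1 := hfix _ hmem hχord ⟨y, le_sup_right (a := R₁) hy⟩ rfl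
    have h2 := hχe' ⟨y, le_sup_right (a := R₁) hy⟩
    rw [show (⟨(χ ⟨y, le_sup_right (a := R₁) hy⟩ : Ω), hM₁N (χ _).2⟩ : N) = y₀ from
      Subtype.ext h1] at h2
    rw [show Subgroup.inclusion hM₁N ⟨y, le_sup_right (a := R₁) hy⟩ = y₀ from rfl] at h2
    exact (eq_mul_inv_iff_mul_eq.1 h2).symm
  -- all elements of `L` normalizing `J`
  set NJ := L ⊓ Subgroup.normalizer (((J.subgroupOf N).map ι : Subgroup G) : Set G)
  set Cy := NJ ⊓ Subgroup.centralizer ({ι y₀} : Set G)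
  have hPJ : Pι ≤ NJ := by
    refine le_inf hPL ?_
    rintro _ ⟨t, ht, rfl⟩
    refine mem_normalizer_of_forall ?_
    rintro _ ⟨j, hj, rfl⟩
    refine ⟨t * j * t⁻¹, ?_, by rw [map_mul, map_mul, map_inv]⟩
    exact conj_mem_jGen (Subgroup.le_normalizer ht) hj
  have hNJ : NJ ≤ Cy := by
    refine le_of_sylow_of_coprime (p := p) (P := Pι) (le_inf hPJ ?_) inf_le_left
      (fun h => hi (h.trans (Dvd.intro _ (Subgroup.relIndex_mul_relIndex Pι NJ L hPJ inf_le_left))))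
      fun l hl hlo => ⟨hl, Subgroup.mem_centralizer_singleton_iff.2 (hco l hl.1 hl.2 hlo)⟩
    rintro _ ⟨t, ht, rfl⟩
    refine Subgroup.mem_centralizer_singleton_iff.2 ?_
    rw [← map_mul, ← map_mul]
    exact congrArg ι (Subtype.ext (hy.2 _ (hPT ht)))
  -- the constrained group `H`
  set K := (((Q ⊔ Y).subgroupOf N).map ι : Subgroup G)
  have hQYN : Q ⊔ Y ≤ N := sup_le hQN hYN
  have hy₀K : ι y₀ ∈ K := ⟨y₀, le_sup_right (a := Q) (Subgroup.mem_zpowers y), rfl⟩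
  have hQK : Qι ≤ K :=
    Subgroup.map_mono fun q hq => (le_sup_left : Q ≤ Q ⊔ Y) hq
  have hKeq : K = Qι ⊔ Subgroup.zpowers (ι y₀) := by
    change ((Q ⊔ Y).subgroupOf N).map ι = _
    rw [Subgroup.subgroupOf_sup hQN hYN, Subgroup.map_sup]
    congr 1
    rw [show Y.subgroupOf N = Subgroup.zpowers y₀ by
      rw [← Subgroup.map_subtype_inj, Subgroup.map_subgroupOf_eq_of_le hYN, MonoidHom.map_zpowers]
      rfl, MonoidHom.map_zpowers]
  have hLK : L ≤ Subgroup.normalizer (K : Set G) := by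
    intro l hl
    refine mem_normalizer_of_forall fun x hx => ?_
    have hle : K ≤ K.comap (MulAut.conj l).toMonoidHom := by
      conv_lhs => rw [hKeq]
      refine sup_le ?_ (Subgroup.zpowers_le.2 ?_)
      · rintro _ ⟨q, hq, rfl⟩
        exact hQK (hQnorm l hl q hq)
      · obtain ⟨q, hq, he⟩ := hyz l hl
        change l * ι y₀ * l⁻¹ ∈ K
        rw [he]
        exact K.mul_mem hy₀K (hQK ⟨q, hq, rfl⟩)
    exact hle hx
  set H := L ⊔ K
  set PH := (((P ⊔ Y).subgroupOf N).map ι : Subgroup G)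
  have hPHeq : PH = Pι ⊔ K := by
    change ((P ⊔ Y).subgroupOf N).map ι = Pι ⊔ ((Q ⊔ Y).subgroupOf N).map ι
    rw [← Subgroup.map_sup, ← Subgroup.subgroupOf_sup hPN hQYN]
    congr 2
    rw [← sup_assoc, sup_eq_left.2 hQP]
  have hPHH : PH ≤ H := hPHeq ▸ sup_le_sup_right hPL K
  have hPHp : IsPGroup p PH := (hS.to_le hNS).to_subgroup _ |>.map ι
  have hPHi : ¬ p ∣ PH.relIndex H := hPHeq ▸ not_dvd_relIndex_sup hLK hPL hi
  let PS : Sylow p H := (hPHp.comap_subtype (K := H)).toSylow hPHi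
  have hPS : (PS : Subgroup H) = PH.subgroupOf H := IsPGroup.toSylow_coe _ _
  have hdec : ∀ h ∈ H, ∃ l ∈ L, ∃ k ∈ K, l * k = h := fun h hh => by
    have hh' : h ∈ ((L ⊔ K : Subgroup G) : Set G) := hh
    rw [Subgroup.coe_mul_of_left_le_normalizer_right _ _ hLK] at hh'
    exact Set.mem_mul.1 hh'
  have hKn : (K.subgroupOf H).Normal := Subgroup.normal_subgroupOf_of_le_normalizer
    (sup_le hLK Subgroup.le_normalizer)
  have hKcomm : ∀ k : N, (k : Ω) ∈ Q ⊔ Y →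
      ∃ q : N, (q : Ω) ∈ Q ∧ ∃ i : ℤ, k = q * y₀ ^ i := by
    intro k hk
    obtain ⟨q, hq, w, hw, hqw⟩ := exists_mem_sup_of_commute
      (fun a ha b hb => commute_C (hQ.1 ha) (hYC hb)) hk
    obtain ⟨i, rfl⟩ := Subgroup.mem_zpowers_iff.1 hw
    exact ⟨⟨q, hQN hq⟩, hq, i, Subtype.ext (hqw.symm.trans (by simp [y₀]))⟩
  have hCH : Subgroup.centralizer ((pCore p H : Subgroup H) : Set H) ≤ pCore p H := by
    have hKO : K.subgroupOf H ≤ pCore p H := Cores.le_pCore (hn := hKn)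
      (IsPGroup.comap_subtype (((hS.to_le hNS).to_subgroup _).map ι))
    intro h hh
    refine hKO (Subgroup.mem_subgroupOf.2 ?_)
    have hcomm : ∀ k ∈ K, k * (h : G) = h * k := fun k hk =>
      congrArg Subtype.val (hh ⟨k, (le_sup_right : K ≤ H) hk⟩ (hKO (Subgroup.mem_subgroupOf.2 hk)))
    obtain ⟨l, hl, k, hk, hlk⟩ := hdec h h.2
    obtain ⟨kN, hkN, rfl⟩ := hk
    obtain ⟨q₀, hq₀, i, rfl⟩ := hKcomm kN hkN
    have hlq : l * ι q₀ ∈ Qι := by
      refine hcent _ (L.mul_mem hl (hPL ⟨q₀, hQP hq₀, rfl⟩)) fun q hq => ?_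
      have h1 := hcomm (ι q) (hQK ⟨q, hq, rfl⟩)
      rw [← hlk, map_mul, ← mul_assoc l] at h1
      have h2 : ι (y₀ ^ i) * ι q = ι q * ι (y₀ ^ i) := by
        rw [← map_mul, ← map_mul]
        refine congrArg ι ?_
        refine (Commute.zpow_left ?_ i).eq
        exact Subtype.ext (hy.2 _ (hQ.1 hq)).symm
      have h3 : ι q * (l * ι q₀) * ι (y₀ ^ i) = l * ι q₀ * ι q * ι (y₀ ^ i) := by
        rw [mul_assoc (ι q), h1, mul_assoc (l * ι q₀), h2, ← mul_assoc]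
      exact (mul_right_cancel h3).symm
    rw [← hlk, map_mul, ← mul_assoc]
    refine K.mul_mem (hQK hlq) ?_
    rw [map_zpow]
    exact K.zpow_mem hy₀K i
  have hres : ∀ h : H, (h : G) * ι y₀ = ι y₀ * h := by
    have hzH : ι y₀ ∈ H := (le_sup_right : K ≤ H) hy₀K
    have hcommP : ∀ k : N, (k : Ω) ∈ P ⊔ Y → ι k * ι y₀ = ι y₀ * ι k := by
      intro k hk
      rw [← map_mul, ← map_mul]
      refine congrArg ι (Subtype.ext ?_)
      obtain ⟨u, hu, w, hw, huw⟩ := exists_mem_sup_of_commute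
        (fun a ha b hb => commute_C (hPT ha) (hYC hb)) hk
      change (k : Ω) * y = y * k
      rw [← huw]
      obtain ⟨i, rfl⟩ := Subgroup.mem_zpowers_iff.1 hw
      exact ((show Commute u y from hy.2 u (hPT hu)).mul_left ((Commute.refl y).zpow_left i)).eq
    have hfin := Transfer.CentralElement.commute_pow PS hCH 1 (Or.inr ⟨rfl, Or.inl hp2⟩)
      (z := ⟨ι y₀, hzH⟩)
      (by rw [hPS]; exact ⟨y₀, le_sup_right (a := P) (Subgroup.mem_zpowers y), rfl⟩)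
      (fun k hk => by
        rw [hPS] at hk
        obtain ⟨kN, hkN, hke⟩ := hk
        refine Subtype.ext ?_
        change (k : G) * ι y₀ = ι y₀ * k
        rw [show (k : G) = ι kN from hke.symm]
        exact hcommP kN hkN)
      (fun g hg => by
        refine Subtype.ext ?_
        simp only [pow_one, Subgroup.coe_mul]
        -- `g` normalizes `J(P Y)`
        set J' := ((jGen 0 (P ⊔ Y)).subgroupOf N).map ι
        have hJ'H : J' ≤ H :=
          le_trans (Subgroup.map_mono fun x hx => jGen_le 0 (P ⊔ Y) hx) hPHH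
        have hjmap : (jGen 0 (PS : Subgroup H)).map H.subtype = J' := by
          rw [← jGen_map H.subtype_injective, hPS, Subgroup.map_subgroupOf_eq_of_le hPHH]
          change jGen 0 (((P ⊔ Y).subgroupOf N).map ι) = _
          rw [jGen_map hι]
          change _ = ((jGen 0 (P ⊔ Y)).subgroupOf N).map ι
          congr 1
          rw [← Subgroup.map_subtype_inj,
            Subgroup.map_subgroupOf_eq_of_le ((jGen_le 0 _).trans hPY),
            ← jGen_map N.subtype_injective, Subgroup.map_subgroupOf_eq_of_le hPY]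
        have hgJ : ∀ x ∈ J', (g : G) * x * (g : G)⁻¹ ∈ J' := by
          rw [← hjmap]
          rintro _ ⟨x, hx, rfl⟩
          exact ⟨g * x * g⁻¹, (Subgroup.mem_normalizer_iff.1 hg x).1 hx, rfl⟩
        obtain ⟨l, hl, k, hk, hlk⟩ := hdec g g.2
        obtain ⟨kN, hkN, rfl⟩ := hk
        have hkP : (kN : Ω) ∈ P ⊔ Y := sup_le_sup_right hQP Y hkN
        have hlJ : ∀ x ∈ J', l * x * l⁻¹ ∈ J' := by
          rintro _ ⟨j, hj, rfl⟩
          have h1 := hgJ (ι (kN⁻¹ * j * kN)) ⟨_, (show ((kN⁻¹ * j * kN : N) : Ω) ∈ jGen 0 (P ⊔ Y) by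
            simpa using conj_mem_jGen (Subgroup.le_normalizer ((P ⊔ Y).inv_mem hkP)) hj), rfl⟩
          rw [← hlk, map_mul, map_mul, map_inv] at h1
          convert h1 using 1
          group
        have hlNJ : l ∈ NJ := by
          refine ⟨hl, mem_normalizer_of_forall ?_⟩
          rintro _ ⟨j, hj, rfl⟩
          have hjJ : (j : Ω) ∈ jGen 0 (P ⊔ Y) ⊓ T := by rw [hJT]; exact hj
          obtain ⟨b, hb, hbe⟩ := hlJ _ ⟨j, hjJ.1, rfl⟩
          refine ⟨b, ?_, hbe⟩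
          show (b : Ω) ∈ J
          rw [← hJT]
          refine ⟨hb, hLT b ?_⟩
          rw [hbe]
          exact L.mul_mem (L.mul_mem hl (hPL ⟨j, hJP hj, rfl⟩)) (L.inv_mem hl)
        have hlc := Subgroup.mem_centralizer_singleton_iff.1 (hNJ hlNJ).2
        rw [← hlk, mul_assoc, hcommP kN hkP, ← mul_assoc, hlc, mul_assoc])
    intro h
    have h1 := congrArg Subtype.val (hfin h)
    simpa using h1
  intro ψ hψ x hx
  obtain ⟨l, hl, hle⟩ := honto ψ hψ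
  have hyM : y ∈ M := le_sup_right (a := Q) hy
  have h1 := hle y₀ ⟨ψ x, hMN (ψ x).2⟩ hyM
    (congrArg (fun z => (ψ z : Ω)) (Subtype.ext hx : x = ⟨y, hyM⟩))
  rw [hres ⟨l, (le_sup_left : L ≤ H) hl⟩, mul_inv_cancel_right] at h1
  exact congrArg Subtype.val (hι h1)

end CfsgLib.Fusion.SmallCent
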